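import Cfsg.Agent.OddTrans.Cyclic

/-!
# Dimension six

The only dimension without a primitive prime; the prime seven and the constituents of degree three
replace it.
-/

set_option autoImplicit false

namespace Cfsg.Agent.OddTrans

open Cfsg Cfsg.Agent Subgroup
open Cfsg.Agent.SolRegular (Semi)

universe u v

theorem six_dvd {d : ℕ} (hd : d ∣ 6) : d = 1 ∨ d = 2 ∨ d = 3 ∨ d = 6 := by
  have := Nat.le_of_dvd (by norm_num) hd
  interval_cases d <;> first | omega | norm_num at hd

theorem two_pow_dvd_63 {d : ℕ} (hd : d ∣ 6) : 2 ^ d - 1 ∣ 63 := by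
  rcases six_dvd hd with rfl | rfl | rfl | rfl <;> norm_num

/-- A group of order dividing 63 with a central subgroup of order seven is abelian. -/
theorem comm_of_dvd_63 {G : Type u} [Group G] [Finite G] (hG : Nat.card G ∣ 63)
    (Z : Subgroup G) [Z.Normal] (hZ : Nat.card Z = 7) (hc : ∀ z ∈ Z, ∀ a, z * a = a * z) (a b : G) :
    a * b = b * a := by
  have hq : Nat.card (G ⧸ Z) ∣ 9 := by
    rw [Z.card_eq_card_quotient_mul_card_subgroup, hZ, show 63 = 9 * 7 from rfl] at hG
    exact Nat.dvd_of_mul_dvd_mul_right (by norm_num) hG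
  have hqc : ∀ x y : G ⧸ Z, x * y = y * x := by
    obtain ⟨i, hi, he⟩ := (Nat.dvd_prime_pow Nat.prime_three).1 (show Nat.card (G ⧸ Z) ∣ 3 ^ 2 by norm_num; exact hq)
    interval_cases i
    · intro x y
      have := (Nat.card_eq_one_iff_unique.1 (he.trans (pow_zero 3))).1
      exact Subsingleton.elim _ _
    · have := Fact.mk Nat.prime_three
      intro x y
      obtain ⟨g, hg⟩ := (isCyclic_of_prime_card (he.trans (pow_one 3))).exists_generator
      obtain ⟨i, rfl⟩ := hg x
      obtain ⟨j, rfl⟩ := hg y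
      exact (Commute.zpow_zpow_self g i j).eq
    · have := Fact.mk Nat.prime_three
      exact IsPGroup.commutative_of_card_eq_prime_sq he
  set w := a * b * a⁻¹ * b⁻¹ with hw
  have hwZ : w ∈ Z := by
    rw [← QuotientGroup.eq_one_iff]
    simp only [hw, QuotientGroup.mk_mul, QuotientGroup.mk_inv]
    rw [hqc (a : G ⧸ Z) b]
    group
  have hb9 : b ^ 9 ∈ Z := by
    rw [← QuotientGroup.eq_one_iff, QuotientGroup.mk_pow]
    exact pow_eq_one_iff_modEq.2 (Nat.modEq_zero_iff_dvd.2 ((_root_.orderOf_dvd_natCard _).trans hq))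
  have hcomm : Commute w b := hc w hwZ b
  have h1 : (a * b * a⁻¹) ^ 9 = w ^ 9 * b ^ 9 := by
    rw [← hcomm.mul_pow]
    congr 1
    rw [hw]
    group
  rw [conj_pow, ← hc _ hb9 a] at h1
  have h9 : w ^ 9 = 1 := by
    have : b ^ 9 = w ^ 9 * b ^ 9 := by rw [← h1]; group
    exact right_eq_mul.1 this
  have h7 : w ^ 7 = 1 := by
    have h : orderOf w ∣ Nat.card Z := orderOf_dvd_natCard Z hwZ
    rw [hZ] at h
    exact orderOf_dvd_iff_pow_eq_one.1 h
  have h0 : w = 1 := by
    have h := (pow_gcd_eq_one (m := 9) (n := 7)).2 ⟨h9, h7⟩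
    rwa [show Nat.gcd 9 7 = 1 from rfl, pow_one] at h
  rw [hw, mul_inv_eq_one, mul_inv_eq_iff_eq_mul] at h0
  exact h0

variable {V : Type v} [AddCommGroup V] [Module (ZMod 2) V] [Finite V] [Nontrivial V]
  {E : Type u} [Group E] [Finite E] (ρ : E →* (V ≃ₗ[ZMod 2] V))

/-- In dimension six there is a normal subgroup of order seven, unless the group is abelian, and in
both cases an abelian normal Sylow centraliser. -/
theorem six_sylow (hρ : Function.Injective ρ) (hodd : Odd (Nat.card E))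
    (htr : ∀ a b : V, a ≠ 0 → b ≠ 0 → ∃ g, ρ g a = b) (h6 : Module.finrank (ZMod 2) V = 6) :
    ∃ P : Sylow 7 E, (P : Subgroup E).Normal ∧
      (P : Subgroup E) ≤ centralizer (P : Set E) ∧
      ∀ a ∈ centralizer ((P : Subgroup E) : Set E),
        ∀ b ∈ centralizer ((P : Subgroup E) : Set E), a * b = b * a := by
  classical
  have := Fintype.ofFinite E
  have : Fact (Nat.Prime 7) := ⟨by norm_num⟩
  have h63 : 63 ∣ Nat.card E := by
    have := two_pow_sub_one_dvd ρ htr
    rwa [h6] at this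
  obtain ⟨χ, m, -, -, -, hsum, hker, hfix⟩ := exists_char ρ hρ hodd htr
  rw [h6] at hsum
  by_cases hlin : ∃ ψ : IrrCharacter E, m ψ ≠ 0 ∧ (ψ : E → ℂ) 1 = 1
  · obtain ⟨ψ, hm, h1⟩ := hlin
    obtain ⟨f, hf⟩ := Char.IsChar.exists_hom (Char.IsIrr.isCharacter ψ.2) h1
    have hD : ∃ v : V, v ≠ 0 ∧ ∀ h ∈ commutator E, ρ h v = v := by
      by_contra! hcon
      have hs := hfix (commutator E) (fun v hv => by
        by_contra hv0
        obtain ⟨h, hh, hne⟩ := hcon v hv0
        exact hne (hv h hh)) ψ hm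
      rw [Finset.sum_congr rfl fun (h : (commutator E : Subgroup E)) _ =>
          show (ψ : E → ℂ) (h : E) = (1 : ℂ) by
            rw [hf]; simp only [Char.hom_commutator_eq_one f h.2, Units.val_one],
        Finset.sum_const, Finset.card_univ, nsmul_eq_mul, mul_one] at hs
      exact Fintype.card_ne_zero (Nat.cast_eq_zero.1 hs)
    obtain ⟨v, hv, hfx⟩ := hD
    have hbot := eq_bot_of_fixed ρ hρ htr (commutator E) hv hfx
    have hcomm : ∀ a b : E, a * b = b * a := fun a b => by
      have h : a * b * a⁻¹ * b⁻¹ ∈ commutator E := by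
        rw [← commutatorElement_def, commutator_def]
        exact commutator_mem_commutator trivial trivial
      rw [hbot, mem_bot, mul_inv_eq_one, mul_inv_eq_iff_eq_mul] at h
      exact h
    refine ⟨default, ⟨fun n hn g => ?_⟩, fun a _ => mem_centralizer_iff.2 fun b _ => hcomm b a,
      fun a _ b _ => hcomm a b⟩
    rw [hcomm g n, mul_inv_cancel_right]
    exact hn
  push Not at hlin
  have h3 : ∀ ψ : IrrCharacter E, m ψ ≠ 0 → (ψ : E → ℂ) 1 = 3 := by
    intro ψ hm
    obtain ⟨d, -, hd⟩ := Char.IsIrr.degree ψ.2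
    have hdd : charDegree (ψ : E → ℂ) = d := Blocks.charDegree_eq hd
    have hle := Finset.single_le_sum (f := fun ψ => m ψ * charDegree (ψ : E → ℂ))
      (fun _ _ => Nat.zero_le _) (Finset.mem_univ ψ)
    simp only [hsum, hdd] at hle
    have hle' := Nat.le_mul_of_pos_left d (Nat.pos_of_ne_zero hm)
    obtain ⟨j, hj⟩ : Odd d := hodd.of_dvd_nat (Char.IsIrr.degree_dvd_card ψ.2 hd)
    have h1 : d ≠ 1 := fun e => hlin ψ hm (by rw [hd, e, Nat.cast_one])
    have h5 : d ≠ 5 := by
      intro e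
      have hm1 : m ψ = 1 := by
        subst e
        omega
      have hrest := Finset.add_sum_erase (f := fun ψ => m ψ * charDegree (ψ : E → ℂ)) _
        (Finset.mem_univ ψ)
      simp only [hsum, hm1, hdd, e] at hrest
      obtain ⟨φ, hφ, hne⟩ := Finset.exists_ne_zero_of_sum_ne_zero
        (f := fun ψ => m ψ * charDegree (ψ : E → ℂ))
        (show ∑ ψ ∈ Finset.univ.erase ψ, m ψ * charDegree (ψ : E → ℂ) ≠ 0 by omega)
      have hle1 := Finset.single_le_sum (f := fun ψ => m ψ * charDegree (ψ : E → ℂ))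
        (fun _ _ => Nat.zero_le _) hφ
      obtain ⟨d', hd'0, hd'⟩ := Char.IsIrr.degree φ.2
      have hdd' : charDegree (φ : E → ℂ) = d' := Blocks.charDegree_eq hd'
      have hm' : m φ ≠ 0 := fun h => hne (by simp [h])
      simp only [hdd'] at hle1
      have := Nat.le_mul_of_pos_left d' (Nat.pos_of_ne_zero hm')
      exact hlin φ hm' (by rw [hd', show d' = 1 by omega, Nat.cast_one])
    rw [hd, show d = 3 by omega]
    rfl
  -- the common monomial kernel
  have hK : ∀ ψ : IrrCharacter E, ∃ K : Subgroup E, K.Normal ∧ ¬ 7 ∣ K.index ∧ (m ψ ≠ 0 →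
      ∀ a ∈ K, ∀ b ∈ K, (ψ : E → ℂ) (a * b * a⁻¹ * b⁻¹) = (ψ : E → ℂ) 1) := by
    intro ψ
    by_cases hm : m ψ = 0
    · exact ⟨⊤, inferInstance, by rw [index_top]; norm_num, fun h => absurd hm h⟩
    · obtain ⟨K, hKn, hidx, hK⟩ := exists_monomial_three hodd ψ (h3 ψ hm)
      exact ⟨K, hKn, by rcases hidx with h | h | h <;> rw [h] <;> norm_num, fun _ => hK⟩
  choose K hKn hKidx hKc using hK
  set B := ⨅ ψ, K ψ with hB
  have hBn : B.Normal := Subgroup.normal_iInf_normal hKn
  have hBc : ∀ a ∈ B, ∀ b ∈ B, a * b = b * a := by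
    intro a ha b hb
    have h : a * b * a⁻¹ * b⁻¹ = 1 := hker _ fun ψ hψ =>
      hKc ψ hψ a (mem_iInf.1 ha ψ) b (mem_iInf.1 hb ψ)
    rwa [mul_inv_eq_one, mul_inv_eq_iff_eq_mul] at h
  let P : Sylow 7 E := default
  have hPB : (P : Subgroup E) ≤ B := by
    refine le_iInf fun ψ a ha => ?_
    have := hKn ψ
    obtain ⟨e, he⟩ := IsPGroup.iff_card.1 P.isPGroup'
    have h1 : orderOf (a : E ⧸ K ψ) ∣ 7 ^ e :=
      (orderOf_map_dvd (QuotientGroup.mk' (K ψ)) a).trans (he ▸ orderOf_dvd_natCard (P : Subgroup E) ha)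
    have h2 : orderOf (a : E ⧸ K ψ) ∣ (K ψ).index := _root_.orderOf_dvd_natCard _
    have h3 : orderOf (a : E ⧸ K ψ) = 1 := Nat.eq_one_of_dvd_coprimes
      ((((Fact.out : Nat.Prime 7).coprime_iff_not_dvd).2 (hKidx ψ)).pow_left e) h1 h2
    rwa [orderOf_eq_one_iff, QuotientGroup.eq_one_iff] at h3
  obtain ⟨d, r, -, -, hV, hBd, -, -⟩ := SolRegular.exists_field (q := 2) ρ hρ htr B hBc
  rw [Module.natCard_eq_pow_finrank (K := ZMod 2), Nat.card_zmod, h6] at hV
  have hdr : d * r = 6 := (Nat.pow_right_injective le_rfl hV).symm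
  have hP63 : Nat.card P ∣ 63 :=
    ((card_dvd_of_le hPB).trans hBd).trans (two_pow_dvd_63 ⟨r, hdr.symm⟩)
  have hP7 : Nat.card P = 7 := by
    obtain ⟨e, he⟩ := IsPGroup.iff_card.1 P.isPGroup'
    rw [he] at hP63
    have h0 : e ≠ 0 := fun h => P.ne_bot_of_dvd_card
      ((show (7 : ℕ) ∣ 63 by norm_num).trans h63) (eq_bot_of_card_eq _ (by rw [he, h, pow_zero]))
    have h2 : e < 2 := by
      by_contra! h
      exact absurd ((pow_dvd_pow 7 h).trans hP63) (by norm_num)
    rw [he, show e = 1 by omega, pow_one]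
  have hPn : (P : Subgroup E).Normal := by
    refine normal_of_normal_in B P hPB ⟨fun n hn g => ?_⟩
    have : g * n = n * g := Subtype.ext (hBc _ g.2 _ n.2)
    rw [this, mul_inv_cancel_right]
    exact hn
  have hPcyc : IsCyclic (P : Subgroup E) := isCyclic_of_prime_card hP7
  have hPC : (P : Subgroup E) ≤ centralizer (P : Set E) := fun a ha =>
    mem_centralizer_iff.2 fun b hb => hBc b (hPB hb) a (hPB ha)
  refine ⟨P, hPn, hPC, ?_⟩
  -- the centraliser of the subgroup of order seven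
  obtain ⟨R, hRf, hRfin, hRm, d, hd0, hR, hr0, hV, hidx, ⟨ι, hι, hιv⟩, hlin', hone⟩ :=
    SolRegular.exists_field_module (V := V) (q := 2) ρ hρ htr (P : Subgroup E)
      (fun a ha b hb => hBc a (hPB ha) b (hPB hb))
  have hcardV : Nat.card V = 2 ^ 6 := by
    rw [Module.natCard_eq_pow_finrank (K := ZMod 2), Nat.card_zmod, h6]
  have hdr : d * Module.finrank R V = 6 := Nat.pow_right_injective le_rfl (hV.symm.trans hcardV)
  have h7d : 7 ∣ 2 ^ d - 1 := by
    have h := SolRegular.card_dvd_of_injective_monoidHom ι hι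
    rwa [hP7, hR] at h
  rcases six_dvd ⟨_, hdr.symm⟩ with rfl | rfl | rfl | rfl
  · norm_num at h7d
  · norm_num at h7d
  swap
  · exact (hone (by omega)).2
  have hr2 : Module.finrank R V = 2 := by omega
  set C := centralizer ((P : Subgroup E) : Set E) with hCdef
  have := Fintype.ofFinite R
  have hRc : Fintype.card R = 8 := by rw [← Nat.card_eq_fintype_card, hR]; norm_num
  have hV2 : ∀ y : V, y + y = 0 := fun y => by
    rw [← two_smul (ZMod 2) y, show (2 : ZMod 2) = 0 from rfl, zero_smul]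
  -- the centraliser moves every vector
  have hfpf : ∀ c ∈ C, ∀ v : V, v ≠ 0 → ρ c v = v → c = 1 := by
    intro c hc v hv hcv
    obtain ⟨w, hvw⟩ : ∃ w : V, w ∉ Submodule.span R {v} := by
      by_contra! h
      have h1 : Submodule.span R ({v} : Set V) = ⊤ := eq_top_iff.2 fun w _ => h w
      have h2 := finrank_span_singleton (K := R) hv
      rw [h1, finrank_top, hr2] at h2
      omega
    have hli : LinearIndependent R ![v, w] := by
      rw [LinearIndependent.pair_iff' hv]
      exact fun a ha => hvw (Submodule.mem_span_singleton.2 ⟨a, ha⟩)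
    have hspan : Submodule.span R (Set.range ![v, w]) = ⊤ :=
      hli.span_eq_top_of_card_eq_finrank (by rw [Fintype.card_fin, hr2])
    have hform : ∀ y : V, ∃ a b : R, y = a • v + b • w := fun y => by
      have hy : y ∈ Submodule.span R (Set.range ![v, w]) := hspan ▸ trivial
      rw [Matrix.range_cons, Matrix.range_cons, Matrix.range_empty, Set.union_empty,
        Set.singleton_union, Submodule.mem_span_pair] at hy
      obtain ⟨a, b, h⟩ := hy
      exact ⟨a, b, h.symm⟩
    obtain ⟨a, b, hw⟩ := hform (ρ c w)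
    have hb : b ≠ 0 := fun h0 => by
      rw [h0, zero_smul, add_zero] at hw
      have h1 : ρ c (a • v) = a • v := by rw [hlin' c hc, hcv]
      exact hvw (Submodule.mem_span_singleton.2 ⟨a, (ρ c).injective (h1.trans hw.symm)⟩)
    have hcvk : ∀ k : ℕ, ρ (c ^ k) v = v := by
      intro k
      induction k with
      | zero => rw [pow_zero, map_one_apply]
      | succ k ih => rw [pow_succ, map_mul, LinearEquiv.mul_apply, hcv, ih]
    have hcwk : ∀ k : ℕ, ∃ a' : R, ρ (c ^ k) w = a' • v + b ^ k • w := by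
      intro k
      induction k with
      | zero => exact ⟨0, by rw [pow_zero, map_one_apply, zero_smul, zero_add, pow_zero, one_smul]⟩
      | succ k ih =>
        obtain ⟨a', ha'⟩ := ih
        refine ⟨a' + b ^ k * a, ?_⟩
        rw [pow_succ', map_mul, LinearEquiv.mul_apply, ha', map_add, hlin' c hc, hlin' c hc, hcv, hw,
          smul_add, smul_smul, smul_smul, ← add_assoc, ← add_smul, pow_succ]
    obtain ⟨a', ha'⟩ := hcwk 7
    rw [show b ^ 7 = 1 by
      have h := FiniteField.pow_card_sub_one_eq_one b hb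
      rwa [hRc] at h, one_smul] at ha'
    have h14w : ρ (c ^ 14) w = w := by
      rw [show 14 = 7 + 7 from rfl, pow_add, map_mul, LinearEquiv.mul_apply, ha', map_add,
        hlin' (c ^ 7) (pow_mem hc 7), hcvk, ha', ← add_assoc, hV2, zero_add]
    have h14 : c ^ 14 = 1 := hρ (LinearEquiv.ext fun y => by
      obtain ⟨s, t, rfl⟩ := hform y
      rw [map_one_apply, map_add, hlin' (c ^ 14) (pow_mem hc 14), hlin' (c ^ 14) (pow_mem hc 14),
        hcvk, h14w])
    have h7 : orderOf c ∣ 7 := by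
      have h1 : orderOf c ∣ 2 * 7 := orderOf_dvd_of_pow_eq_one h14
      exact (Nat.coprime_two_right.2 (hodd.of_dvd_nat (orderOf_dvd_natCard c))).dvd_of_dvd_mul_left h1
    have hp : IsPGroup 7 (zpowers c) := by
      obtain ⟨i, -, hi⟩ := (Nat.dvd_prime_pow (Fact.out : Nat.Prime 7)).1
        (show orderOf c ∣ 7 ^ 1 by rw [pow_one]; exact h7)
      exact IsPGroup.of_card (by rw [Nat.card_zpowers, hi])
    obtain ⟨Q, hQ⟩ := hp.exists_le_sylow
    have hu := Sylow.unique_of_normal P hPn
    rw [show Q = P from (hu.uniq Q).trans (hu.uniq P).symm] at hQ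
    have hcP : c ∈ (P : Subgroup E) := hQ (mem_zpowers c)
    have h1 := hιv ⟨c, hcP⟩ v
    rw [hcv] at h1
    have h2 : ι ⟨c, hcP⟩ = 1 := smul_left_injective R hv (show ι ⟨c, hcP⟩ • v = (1 : R) • v by
      rw [one_smul, ← h1])
    exact congrArg Subtype.val (hι (h2.trans (map_one ι).symm))
  -- hence its order divides the number of nonzero vectors
  have hC63 : Nat.card C ∣ 63 := by
    letI : MulAction C {y : V // y ≠ 0} :=
      { smul := fun c y => ⟨ρ c y, fun h => y.2 ((ρ c).map_eq_zero_iff.1 h)⟩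
        one_smul := fun y => Subtype.ext (map_one_apply ρ y)
        mul_smul := fun a b y => Subtype.ext (show ρ ((a : E) * b) y = ρ a (ρ b y) by
          rw [map_mul]; rfl) }
    have hfree : ∀ y : {y : V // y ≠ 0}, MulAction.stabilizer C y = ⊥ := fun y => by
      rw [eq_bot_iff]
      intro c hc
      exact mem_bot.2 (Subtype.ext (hfpf c c.2 y y.2 (congrArg Subtype.val hc)))
    have h1 := Nat.card_congr (MulAction.selfEquivOrbitsQuotientProd hfree)
    have h2 : Nat.card {y : V // y ≠ 0} = 63 := by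
      show Nat.card ({0}ᶜ : Set V) = 63
      rw [Nat.card_coe_set_eq, Set.ncard_compl, Set.ncard_singleton, hcardV]
      norm_num
    rw [h2, Nat.card_prod] at h1
    exact h1 ▸ dvd_mul_left _ _
  intro a ha b hb
  have hn : ((P : Subgroup E).subgroupOf C).Normal := inferInstance
  exact congrArg Subtype.val (comm_of_dvd_63 (G := C) hC63 ((P : Subgroup E).subgroupOf C)
    (by rw [Nat.card_congr (subgroupOfEquivOfLe (show (P : Subgroup E) ≤ C from hPC)).toEquiv, hP7])
    (fun z hz c => Subtype.ext (mem_centralizer_iff.1 c.2 z (mem_subgroupOf.1 hz))) ⟨a, ha⟩ ⟨b, hb⟩)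

theorem exists_kernel_six (hρ : Function.Injective ρ) (hodd : Odd (Nat.card E))
    (htr : ∀ a b : V, a ≠ 0 → b ≠ 0 → ∃ g, ρ g a = b) (h6 : Module.finrank (ZMod 2) V = 6) :
    ∃ C : Subgroup E, Kernel ρ C ∧ Semi (fun g v => ρ g v) := by
  have : Fact (Nat.Prime 7) := ⟨by norm_num⟩
  obtain ⟨P, hPn, hPC, hCab⟩ := six_sylow ρ hρ hodd htr h6
  set C₀ := centralizer ((P : Subgroup E) : Set E) with hC₀
  have hC₀n : C₀.Normal := by rw [hC₀]; infer_instance
  obtain ⟨R, hRf, hRfin, hRm, d₀, hd₀, hR, hr₀, hV, hidx, -, -, -⟩ :=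
    SolRegular.exists_field_module (V := V) (q := 2) ρ hρ htr C₀ hCab
  have hcardV : Nat.card V = 2 ^ 6 := by
    rw [Module.natCard_eq_pow_finrank (K := ZMod 2), Nat.card_zmod, h6]
  have hdvd : d₀ ∣ 6 := ⟨_, (Nat.pow_right_injective le_rfl (hV.symm.trans hcardV)).symm⟩
  have hidx' : C₀.index ∣ 6 := by
    refine (dvd_trans ?_ hidx).trans hdvd
    have hle : centralizer (C₀ : Set E) ≤ C₀ := centralizer_le hPC
    exact Subgroup.index_dvd_of_le hle
  have h21 : 21 ∣ Nat.card C₀ := by
    have h63 : 63 ∣ Nat.card E := by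
      have := two_pow_sub_one_dvd ρ htr
      rwa [h6] at this
    have hio : Odd C₀.index := hodd.of_dvd_nat (index_dvd_card C₀)
    have hi3 : C₀.index ∣ 3 := by
      rcases six_dvd hidx' with h | h | h | h <;> rw [h] at hio ⊢ <;> first | exact absurd hio (by decide) | norm_num
    have hE3 : Nat.card E ∣ Nat.card C₀ * 3 := C₀.card_mul_index ▸ Nat.mul_dvd_mul_left _ hi3
    exact Nat.dvd_of_mul_dvd_mul_right (by norm_num : 0 < 3)
      ((show 21 * 3 = 63 from rfl) ▸ h63.trans hE3)
  obtain ⟨C, h1, h2, h3, h4, h5, h6', h7, h8⟩ := of_normal_sylow ρ hρ htr P hPC hCab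
    (fun d _ hd hcard => by
      rw [h6] at hd ⊢
      rcases six_dvd hd with rfl | rfl | rfl | rfl
      all_goals first
        | rfl
        | exact absurd (h21.trans hcard) (by norm_num))
  exact ⟨C, ⟨h1, h2, h3, h4, h5, h6', h7⟩, h8⟩

/-- A group of odd order transitive on the nonzero vectors over two elements is semilinear. -/
theorem exists_kernel (hρ : Function.Injective ρ) (hodd : Odd (Nat.card E))
    (htr : ∀ a b : V, a ≠ 0 → b ≠ 0 → ∃ g, ρ g a = b) :
    ∃ C : Subgroup E, Kernel ρ C ∧ Semi (fun g v => ρ g v) := by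
  have hn : 0 < Module.finrank (ZMod 2) V := Module.finrank_pos
  by_cases h1 : Module.finrank (ZMod 2) V = 1
  · exact exists_kernel_one ρ hρ h1
  by_cases h6 : Module.finrank (ZMod 2) V = 6
  · exact exists_kernel_six ρ hρ hodd htr h6
  exact exists_kernel_zsigmondy ρ hρ hodd htr (by omega) h6

end Cfsg.Agent.OddTrans
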