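import Cfsg.Agent.OddTrans.Main
import Cfsg.Agent.Char.Linear

/-!
# A self-centralising cyclic normal subgroup in odd-order transitive linear groups over two elements
-/

set_option autoImplicit false

namespace Cfsg.Agent.OddTrans

open Cfsg Cfsg.Agent Subgroup
open Cfsg.Agent.SolRegular (Semi)

universe u v

/-- The properties established for the kernel of the semilinear structure. -/
def Kernel {V : Type v} [AddCommGroup V] [Module (ZMod 2) V] {E : Type u} [Group E]
    (ρ : E →* (V ≃ₗ[ZMod 2] V)) (C : Subgroup E) : Prop :=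
  C.Normal ∧ IsCyclic C ∧ C.index ∣ Module.finrank (ZMod 2) V ∧
    centralizer (C : Set E) = C ∧ (∀ c ∈ C, c ≠ 1 → ∀ v, ρ c v = v → v = 0) ∧
    commutator E ≤ C ∧ (∀ N : Subgroup E, N.Normal → Group.IsNilpotent N → N ≤ C)

section Sylow

variable {G : Type u} [Group G] [Finite G] {l : ℕ} [hl : Fact l.Prime]

/-- A normal subgroup of order divisible by `l` contains every Sylow subgroup of order `l`. -/
theorem sylow_le_of_dvd (P : Sylow l G) (hP : Nat.card P = l) (N : Subgroup G) [N.Normal]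
    (hN : l ∣ Nat.card N) : (P : Subgroup G) ≤ N := by
  obtain ⟨⟨y, hy⟩, hyo⟩ := exists_prime_orderOf_dvd_card' (G := N) l hN
  rw [orderOf_mk] at hyo
  have hy' : IsPGroup l (zpowers y) := IsPGroup.of_card (n := 1) (by rw [Nat.card_zpowers, hyo, pow_one])
  obtain ⟨Q, hQ⟩ := hy'.exists_le_sylow
  have hcard : Nat.card Q = l := by
    rw [Sylow.card_eq_multiplicity, ← P.card_eq_multiplicity, hP]
  have hQN : (Q : Subgroup G) ≤ N := by
    rw [← Subgroup.eq_of_le_of_card_ge hQ (by rw [Nat.card_zpowers, hyo, hcard]), zpowers_le]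
    exact hy
  obtain ⟨g, rfl⟩ := MulAction.exists_smul_eq G Q P
  intro z hz
  rw [Sylow.smul_def, Sylow.pointwise_smul_def, Subgroup.mem_pointwise_smul_iff_inv_smul_mem] at hz
  have h := hQN hz
  rw [← map_inv, MulAut.smul_def, MulAut.conj_apply] at h
  simpa [mul_assoc] using Subgroup.Normal.conj_mem (inferInstance : N.Normal) _ h g

/-- A Sylow subgroup of a normal subgroup that is normal there is normal. -/
theorem normal_of_normal_in (N : Subgroup G) [N.Normal] (P : Sylow l G)
    (hPN : (P : Subgroup G) ≤ N) (h : (P.subtype hPN : Subgroup N).Normal) :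
    (P : Subgroup G).Normal := by
  have : ((P.subtype hPN : Subgroup N)).Characteristic := Sylow.characteristic_of_normal _ h
  have h1 : ((P.subtype hPN : Subgroup N).map N.subtype).Normal := inferInstance
  rwa [Sylow.coe_subtype, Subgroup.map_subgroupOf_eq_of_le hPN] at h1

/-- A normal subgroup of the prime order is the Sylow subgroup. -/
theorem sylow_normal_of_card (P : Sylow l G) (hP : Nat.card P = l)
    {H : Subgroup G} [H.Normal] (hH : Nat.card H = l) : (P : Subgroup G).Normal := by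
  have := Subgroup.eq_of_le_of_card_ge (sylow_le_of_dvd P hP H hH.symm.dvd) (by rw [hH, hP])
  rw [this]
  infer_instance

end Sylow

theorem primitive_le {l n : ℕ} (hl : l.Prime) (hl2 : l ≠ 2) (hdiv : l ∣ 2 ^ n - 1)
    (hprim : ∀ k, 0 < k → k < n → ¬ l ∣ 2 ^ k - 1) : n + 1 ≤ l ∧ (Odd n → 2 * n + 1 ≤ l) := by
  have := Fact.mk hl
  have h2 : (2 : ZMod l) ≠ 0 := by
    intro h
    have h' : ((2 : ℕ) : ZMod l) = 0 := by exact_mod_cast h
    rw [ZMod.natCast_eq_zero_iff] at h'
    exact hl2 ((Nat.prime_dvd_prime_iff_eq hl Nat.prime_two).1 h')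
  have hiff : ∀ k, l ∣ 2 ^ k - 1 ↔ (2 : ZMod l) ^ k = 1 := fun k => by
    rw [← ZMod.natCast_eq_zero_iff, Nat.cast_sub (Nat.one_le_two_pow), sub_eq_zero]
    push_cast
    rfl
  rcases Nat.eq_zero_or_pos n with hn | hn
  · subst hn
    exact ⟨hl.pos, fun h => absurd h (by decide)⟩
  have ho : orderOf (2 : ZMod l) = n := (orderOf_eq_iff hn).2
    ⟨(hiff n).1 hdiv, fun k hk hk0 h => hprim k hk0 hk ((hiff k).2 h)⟩
  have hd : n ∣ l - 1 := ho ▸ ZMod.orderOf_dvd_card_sub_one h2
  have hl1 : 0 < l - 1 := by have := hl.two_le; omega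
  refine ⟨by have := Nat.le_of_dvd hl1 hd; omega, fun hodd => ?_⟩
  obtain ⟨c, hc⟩ := hd
  obtain ⟨j, hj⟩ := hodd
  obtain ⟨i, hi⟩ := hl.odd_of_ne_two hl2
  have hc1 : 2 ≤ c := by
    rcases c with _ | _ | c
    · omega
    · omega
    · omega
  have := Nat.mul_le_mul_left n hc1
  omega

variable {V : Type v} [AddCommGroup V] [Module (ZMod 2) V] [Finite V] [Nontrivial V]
  {E : Type u} [Group E] [Finite E] (ρ : E →* (V ≃ₗ[ZMod 2] V))

omit [Nontrivial V] [Finite E] in
theorem map_one_apply (v : V) : ρ 1 v = v := by rw [map_one]; rfl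

omit [Finite E] in
/-- The endomorphism attached to a group element. -/
def endHom : E →* Module.End (ZMod 2) V where
  toFun g := (ρ g).toLinearMap
  map_one' := by rw [map_one]; rfl
  map_mul' a b := by rw [map_mul]; rfl

/-- An element of primitive prime order is irreducible. -/
theorem centralizer_of_primitive (hρ : Function.Injective ρ)
    (hn : 2 ≤ Module.finrank (ZMod 2) V) {l : ℕ} (hl : l.Prime) (hl2 : l ≠ 2)
    (hprim : ∀ k, 0 < k → k < Module.finrank (ZMod 2) V → ¬ l ∣ 2 ^ k - 1) {x : E}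
    (hxl : orderOf x = l) :
    (∀ a ∈ centralizer ({x} : Set E), ∀ b ∈ centralizer ({x} : Set E), a * b = b * a) ∧
      ∀ v, ρ x v = v → v = 0 := by
  have hinj : Function.Injective (endHom ρ) := fun a b h => hρ (LinearEquiv.toLinearMap_injective h)
  have hf : endHom ρ x ^ l = 1 := by rw [← map_pow, ← hxl, pow_orderOf_eq_one, map_one]
  have hne : endHom ρ x ≠ 1 := fun h => by
    have h1 : x = 1 := hinj (h.trans (map_one _).symm)
    rw [h1, orderOf_one] at hxl
    exact hl.ne_one hxl.symm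
  refine ⟨?_, fun v hv => ThreeCharBlock.eq_zero_of_fixed hl hl2 hf hne hprim hn (f := endHom ρ x) hv⟩
  have hcyc : IsCyclic (centralizer ({x} : Set E)) :=
    ThreeCharBlock.isCyclic_of_commute (ThreeCharBlock.irreducible hl hl2 hf hne hprim)
      ((endHom ρ).comp (Subgroup.subtype _)) (fun a b h => Subtype.ext (hinj h)) fun a => by
      simp only [MonoidHom.comp_apply, Subgroup.coe_subtype]
      rw [← map_mul, ← map_mul, mem_centralizer_singleton_iff.1 a.2]
  intro a ha b hb
  obtain ⟨g, hg⟩ := hcyc.exists_generator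
  obtain ⟨i, hi⟩ := hg ⟨a, ha⟩
  obtain ⟨j, hj⟩ := hg ⟨b, hb⟩
  have h := (Commute.zpow_zpow_self g i j).eq
  simp only [hi, hj] at h
  exact congrArg Subtype.val h

/-- All of a normal subgroup moves every vector or it is trivial. -/
theorem eq_bot_of_fixed (hρ : Function.Injective ρ)
    (htr : ∀ a b : V, a ≠ 0 → b ≠ 0 → ∃ g, ρ g a = b) (N : Subgroup E) [N.Normal] {v : V}
    (hv : v ≠ 0) (hfix : ∀ h ∈ N, ρ h v = v) : N = ⊥ := by
  rw [eq_bot_iff]
  intro h hh
  refine mem_bot.2 (hρ (LinearEquiv.ext fun w => ?_))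
  rw [map_one_apply]
  by_cases hw : w = 0
  · rw [hw, map_zero]
  obtain ⟨g, rfl⟩ := htr v w hv hw
  have h1 := hfix _ (Subgroup.Normal.conj_mem inferInstance h hh g⁻¹)
  rw [inv_inv, map_mul, map_mul] at h1
  have h2 := congrArg (ρ g) h1
  rwa [LinearEquiv.mul_apply, LinearEquiv.mul_apply, ← LinearEquiv.mul_apply, ← map_mul,
    mul_inv_cancel, map_one_apply] at h2

theorem exists_kernel_one (hρ : Function.Injective ρ) (hn : Module.finrank (ZMod 2) V = 1) :
    ∃ C : Subgroup E, Kernel ρ C ∧ Semi (fun g v => ρ g v) := by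
  have h2 : Nat.card V = 2 := by
    rw [Module.natCard_eq_pow_finrank (K := ZMod 2), Nat.card_zmod, hn, pow_one]
  obtain ⟨v₀, hv₀⟩ := exists_ne (0 : V)
  have hall : ∀ w : V, w ≠ 0 → w = v₀ := fun w hw => by
    have hset : ({0, v₀} : Set V) = Set.univ := Set.eq_of_subset_of_ncard_le (Set.subset_univ _)
      (by rw [Set.ncard_univ, h2, Set.ncard_pair hv₀.symm]) (Set.toFinite _)
    have hmem : w ∈ ({0, v₀} : Set V) := by rw [hset]; trivial
    exact (Set.mem_insert_iff.1 hmem).resolve_left hw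
  have hid : ∀ g w, ρ g w = w := fun g w => by
    by_cases hw : w = 0
    · rw [hw, map_zero]
    · rw [hall w hw, hall (ρ g v₀) fun h => hv₀ ((ρ g).map_eq_zero_iff.1 h)]
  have hone : ∀ g : E, g = 1 := fun g => hρ (LinearEquiv.ext fun w => by rw [hid, map_one_apply])
  have : Subsingleton E := ⟨fun a b => (hone a).trans (hone b).symm⟩
  refine ⟨⊤, ⟨inferInstance, inferInstance, ?_, ?_, fun c _ hc => absurd (hone c) hc, le_top,
    fun _ _ _ => le_top⟩, ?_⟩
  · rw [Subgroup.index_top]; exact one_dvd _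
  · exact Subsingleton.elim _ _
  · refine ⟨ZMod 2, inferInstance, inferInstance,
      (LinearEquiv.ofFinrankEq V (ZMod 2) (hn.trans (Module.finrank_self _).symm)).toAddEquiv,
      fun g => ⟨1, RingEquiv.refl _, fun v => ?_⟩⟩
    simp only [hid, one_mul]
    rfl

/-- Away from dimension six a primitive prime does everything. -/
theorem exists_kernel_zsigmondy (hρ : Function.Injective ρ) (hodd : Odd (Nat.card E))
    (htr : ∀ a b : V, a ≠ 0 → b ≠ 0 → ∃ g, ρ g a = b) (hn : 2 ≤ Module.finrank (ZMod 2) V)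
    (h6 : Module.finrank (ZMod 2) V ≠ 6) :
    ∃ C : Subgroup E, Kernel ρ C ∧ Semi (fun g v => ρ g v) := by
  classical
  have := Fintype.ofFinite E
  obtain ⟨χ, m, hχc, hχd, hχf, hsum, -, hfix⟩ := exists_char ρ hρ hodd htr
  set n := Module.finrank (ZMod 2) V with hndef
  obtain ⟨l, hl, hldvd, hprim⟩ := LocalStructure.zsigmondy (a := 2) (n := n) one_lt_two hn
    (fun h => h6 h.2) (fun h => by
      obtain ⟨-, m, hm⟩ := h
      rcases m with _ | m
      · simp at hm
      · rw [pow_succ] at hm; omega)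
  have := Fact.mk hl
  have hl2 : l ≠ 2 := fun e => by
    subst e
    have : 2 ∣ 2 ^ n := dvd_pow_self 2 (by omega)
    have := Nat.one_le_two_pow (n := n)
    omega
  have hlE : l ∣ Nat.card E := hldvd.trans (two_pow_sub_one_dvd ρ htr)
  obtain ⟨hnl, hnl'⟩ := primitive_le hl hl2 hldvd hprim
  let P : Sylow l E := default
  have hP1 : (P : Subgroup E) ≠ ⊥ := P.ne_bot_of_dvd_card hlE
  obtain ⟨x, hxP, hxo, hxc⟩ : ∃ x ∈ (P : Subgroup E), orderOf x = l ∧
      ∀ a ∈ (P : Subgroup E), a * x = x * a := by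
    have hnt : Nontrivial (P : Subgroup E) := (Subgroup.nontrivial_iff_ne_bot _).2 hP1
    obtain ⟨k, hk, hcard⟩ := (P.isPGroup'.to_subgroup (center (P : Subgroup E))).nontrivial_iff_card.1
      P.isPGroup'.center_nontrivial
    obtain ⟨⟨⟨z, hz⟩, hzc⟩, hzo⟩ := exists_prime_orderOf_dvd_card' (G := center (P : Subgroup E)) l
      (hcard ▸ dvd_pow_self l hk.ne')
    rw [orderOf_mk, orderOf_mk] at hzo
    exact ⟨z, hz, hzo, fun a ha => congrArg Subtype.val (mem_center_iff.1 hzc ⟨a, ha⟩)⟩
  obtain ⟨hCx, hxfix⟩ := centralizer_of_primitive ρ hρ hn hl hl2 hprim hxo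
  have hPCx : (P : Subgroup E) ≤ centralizer ({x} : Set E) := fun a ha =>
    mem_centralizer_singleton_iff.2 (hxc a ha)
  have hCPx : centralizer ((P : Subgroup E) : Set E) ≤ centralizer ({x} : Set E) :=
    centralizer_le (Set.singleton_subset_iff.2 hxP)
  have hPC : (P : Subgroup E) ≤ centralizer (P : Set E) := fun a ha =>
    mem_centralizer_iff.2 fun b hb => hCx b (hPCx hb) a (hPCx ha)
  have hCab : ∀ a ∈ centralizer ((P : Subgroup E) : Set E),
      ∀ b ∈ centralizer ((P : Subgroup E) : Set E), a * b = b * a := fun a ha b hb =>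
    hCx a (hCPx ha) b (hCPx hb)
  have hdeg : ∀ d, 0 < d → d ∣ n → Nat.card (centralizer ((P : Subgroup E) : Set E)) ∣ 2 ^ d - 1 →
      d = n := by
    intro d hd0 hdn hdvd
    have h1 : l ∣ 2 ^ d - 1 := by
      refine Dvd.dvd.trans ?_ hdvd
      have := orderOf_dvd_natCard _ (hPC hxP)
      rwa [hxo] at this
    rcases lt_or_eq_of_le (Nat.le_of_dvd (by omega) hdn) with h | h
    · exact absurd h1 (hprim d hd0 h)
    · exact h
  suffices hPn : (P : Subgroup E).Normal by
    obtain ⟨C, h1, h2, h3, h4, h5, h6', h7, h8⟩ := of_normal_sylow ρ hρ htr P hPC hCab hdeg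
    exact ⟨C, ⟨h1, h2, h3, h4, h5, h6', h7⟩, h8⟩
  obtain ⟨e, he⟩ := IsPGroup.iff_card.1 P.isPGroup'
  by_cases hsq : l ^ 2 ∣ Nat.card E
  · -- large Sylow subgroup with trivial intersections
    refine S4485.result l hl hlE P (fun y hy hy1 => ?_) e he χ hχc hχf ?_
    · have hy' : ∃ k, orderOf y = l ^ (k + 1) := by
        obtain ⟨k, -, hk⟩ := (Nat.dvd_prime_pow hl).1 (he ▸ orderOf_dvd_natCard (P : Subgroup E) hy)
        rcases k with _ | k
        · exact absurd (orderOf_eq_one_iff.1 (hk.trans (pow_zero l))) hy1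
        · exact ⟨k, hk⟩
      obtain ⟨k, hk⟩ := hy'
      set z := y ^ l ^ k with hz
      have hzo : orderOf z = l := by
        rw [hz, orderOf_pow, hk, Nat.gcd_eq_right (pow_dvd_pow l (Nat.le_succ k)), pow_succ,
          Nat.mul_div_cancel_left _ (pow_pos hl.pos k)]
      have hCz := (centralizer_of_primitive ρ hρ hn hl hl2 hprim hzo).1
      have hPz : (P : Subgroup E) ≤ centralizer ({z} : Set E) := fun a ha =>
        mem_centralizer_singleton_iff.2 (mem_centralizer_iff.1 (hPC ha) z (pow_mem hy _)).symm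
      refine le_antisymm (fun a ha => mem_centralizer_iff.2 fun b hb => ?_)
        (centralizer_le (Set.singleton_subset_iff.2 hy))
      refine hCz b (hPz hb) a ?_
      rw [mem_centralizer_singleton_iff] at ha ⊢
      exact (Commute.pow_right ha _).eq
    · have h2 : l ^ 2 ≤ l ^ e := by
        rw [← he, P.card_eq_multiplicity]
        exact Nat.le_of_dvd (pow_pos hl.pos _)
          (pow_dvd_pow l ((hl.pow_dvd_iff_le_factorization Nat.card_pos.ne').1 hsq))
      rw [hχd]
      nlinarith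
  have hPl : Nat.card P = l := by
    have h1 : e = 1 := by
      have h2 : l ∣ l ^ e := he ▸ hxo ▸ orderOf_dvd_natCard (P : Subgroup E) hxP
      have h3 : l ^ e ∣ Nat.card E := he ▸ card_subgroup_dvd_card _
      rcases e with _ | _ | e
      · rw [pow_zero] at h2; exact absurd (Nat.dvd_one.1 h2) hl.ne_one
      · rfl
      · exact absurd ((pow_dvd_pow l (by omega)).trans h3) hsq
    rw [he, h1, pow_one]
  rcases Nat.even_or_odd n with hev | hoddn
  swap
  · obtain ⟨H, hH, hHc⟩ := normal_small hodd hl hlE hsq hχc hχf (by rw [hχd]; exact hnl' hoddn)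
    exact sylow_normal_of_card P hPl hHc
  -- some constituent has at most half the degree
  have hd : ∀ ψ : IrrCharacter E, ∃ d : ℕ, charDegree (ψ : E → ℂ) = d ∧ (ψ : E → ℂ) 1 = d ∧ Odd d := by
    intro ψ
    obtain ⟨d, -, hd⟩ := Char.IsIrr.degree ψ.2
    exact ⟨d, Blocks.charDegree_eq hd, hd, hodd.of_dvd_nat (Char.IsIrr.degree_dvd_card ψ.2 hd)⟩
  obtain ⟨ψ, hmψ, hψd⟩ : ∃ ψ : IrrCharacter E, m ψ ≠ 0 ∧ 2 * charDegree (ψ : E → ℂ) ≤ n := by
    by_contra! hcon
    obtain ⟨ψ₀, -, h0⟩ := Finset.exists_ne_zero_of_sum_ne_zero (hsum.trans_ne (by omega))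
    have hm0 : m ψ₀ ≠ 0 := fun h => h0 (by simp [h])
    have hle := Finset.single_le_sum (f := fun ψ => m ψ * charDegree (ψ : E → ℂ))
      (fun _ _ => Nat.zero_le _) (Finset.mem_univ ψ₀)
    simp only [hsum] at hle
    have hbig := hcon ψ₀ hm0
    have hm1 : m ψ₀ = 1 := by
      by_contra h
      have := Nat.mul_le_mul_right (charDegree (ψ₀ : E → ℂ)) (show 2 ≤ m ψ₀ by omega)
      omega
    have hrest := Finset.add_sum_erase (f := fun ψ => m ψ * charDegree (ψ : E → ℂ)) _
      (Finset.mem_univ ψ₀)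
    simp only [hsum, hm1, one_mul] at hrest hle
    obtain ⟨d, hd1, -, ⟨j, hj⟩⟩ := hd ψ₀
    obtain ⟨i, hi⟩ := hev
    obtain ⟨ψ₁, hψ₁, h1⟩ := Finset.exists_ne_zero_of_sum_ne_zero
      (f := fun ψ => m ψ * charDegree (ψ : E → ℂ))
      (show ∑ ψ ∈ Finset.univ.erase ψ₀, m ψ * charDegree (ψ : E → ℂ) ≠ 0 by omega)
    have hle1 := Finset.single_le_sum (f := fun ψ => m ψ * charDegree (ψ : E → ℂ))
      (fun _ _ => Nat.zero_le _) hψ₁
    have hm1' : m ψ₁ ≠ 0 := fun h => h1 (by simp [h])
    have h2 := hcon ψ₁ hm1'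
    have h3 := Nat.le_mul_of_pos_left (charDegree (ψ₁ : E → ℂ)) (Nat.pos_of_ne_zero hm1')
    omega
  obtain ⟨d, hd1, hd2, -⟩ := hd ψ
  rw [hd1] at hψd
  have hψc := Char.IsIrr.isCharacter ψ.2
  set K := Char.kerSubgroup hψc with hKdef
  have hPK : ¬ (P : Subgroup E) ≤ K := fun hle => by
    have hs := hfix (P : Subgroup E) (fun v hv => hxfix v (hv x hxP)) ψ hmψ
    rw [Finset.sum_congr rfl fun (h : (P : Subgroup E)) _ => show (ψ : E → ℂ) (h : E) = (d : ℂ) from
        ((Char.mem_kerSubgroup hψc).1 (hle h.2)).trans hd2,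
      Finset.sum_const, Finset.card_univ, nsmul_eq_mul] at hs
    rcases mul_eq_zero.1 hs with h | h
    · exact Fintype.card_ne_zero (Nat.cast_eq_zero.1 h)
    · obtain ⟨d', hd'0, hd'⟩ := Char.IsIrr.degree ψ.2
      rw [hd2, h] at hd'
      exact hd'0.ne' (Nat.cast_eq_zero.1 hd'.symm)
  have hlK : ¬ l ∣ Nat.card K := fun h => hPK (sylow_le_of_dvd P hPl K h)
  obtain ⟨φ, hφc, hφ⟩ := Char.IsChar.exists_quotient K hψc fun g hg => (Char.mem_kerSubgroup hψc).1 hg
  have hcardEK : Nat.card E = Nat.card (E ⧸ K) * Nat.card K := K.card_eq_card_quotient_mul_card_subgroup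
  have hlq : l ∣ Nat.card (E ⧸ K) :=
    (hl.coprime_iff_not_dvd.2 hlK).dvd_of_dvd_mul_right (hcardEK ▸ hlE)
  have hφd : charDegree φ = d := Blocks.charDegree_eq (by rw [← hd2, hφ, QuotientGroup.mk_one])
  obtain ⟨H', hH'n, hH'c⟩ := normal_small (hodd.of_dvd_nat (card_quotient_dvd_card K)) hl hlq
    (fun h => hsq (h.trans (card_quotient_dvd_card K))) hφc (fun g hg => by
      induction g using QuotientGroup.induction_on with
      | _ a =>
        rw [QuotientGroup.eq_one_iff]
        refine (Char.mem_kerSubgroup hψc).2 ?_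
        rw [hφ, hg, hφ, QuotientGroup.mk_one]) (by rw [hφd]; omega)
  set H := H'.comap (QuotientGroup.mk' K) with hHdef
  have hHn : H.Normal := hH'n.comap _
  have hKH : K ≤ H := by
    intro k hk
    rw [hHdef, mem_comap, QuotientGroup.mk'_apply, (QuotientGroup.eq_one_iff k).2 hk]
    exact one_mem _
  have hHc : Nat.card H = l * Nat.card K := by
    have h1 := H.card_mul_index
    have h2 := H'.card_mul_index
    rw [hHdef, index_comap_of_surjective _ (QuotientGroup.mk'_surjective K), hcardEK, ← h2, hH'c,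
      ← hHdef, show l * H'.index * Nat.card K = l * Nat.card K * H'.index by ring] at h1
    exact Nat.eq_of_mul_eq_mul_right (Nat.pos_of_ne_zero FiniteIndex.index_ne_zero) h1
  have hPH : (P : Subgroup E) ≤ H := sylow_le_of_dvd P hPl H (hHc ▸ dvd_mul_right _ _)
  refine normal_of_normal_in H P hPH ?_
  by_contra hnot
  have hsolv : IsPSolvable l H := by
    have hrel1 : (⊥ : Subgroup H).relIndex (K.subgroupOf H) = Nat.card K := by
      rw [relIndex_bot_left, Nat.card_congr (subgroupOfEquivOfLe hKH).toEquiv]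
    have hrel2 : (K.subgroupOf H).relIndex ⊤ = l := by
      have h1 := (K.subgroupOf H).card_mul_index
      rw [Nat.card_congr (subgroupOfEquivOfLe hKH).toEquiv, hHc, mul_comm l] at h1
      rw [relIndex_top_right]
      exact Nat.eq_of_mul_eq_mul_left Nat.card_pos h1
    refine ⟨2, ![⊥, K.subgroupOf H, ⊤], rfl, rfl, ?_, ?_, ?_⟩
    · refine Fin.monotone_iff_le_succ.2 fun i => ?_
      fin_cases i
      · exact bot_le
      · exact le_top
    · intro i
      fin_cases i
      · exact (inferInstance : (⊥ : Subgroup H).Normal)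
      · exact (inferInstance : (K.subgroupOf H).Normal)
      · exact (inferInstance : (⊤ : Subgroup H).Normal)
    · intro i
      fin_cases i
      · right
        show ((⊥ : Subgroup H).relIndex (K.subgroupOf H)).Coprime l
        rw [hrel1]
        exact (hl.coprime_iff_not_dvd.2 hlK).symm
      · left
        refine ⟨1, ?_⟩
        show (K.subgroupOf H).relIndex ⊤ = l ^ 1
        rw [hrel2, pow_one]
  obtain ⟨-, -, hirr⟩ := S4468.result (fun h : H => χ h) (Char.isCharacter_res H hχc)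
    (fun g hg => Subtype.ext (hχf g hg)) n (Blocks.charDegree_eq (by
      rw [OneMemClass.coe_one, ← Blocks.charDegree_cast hχc, hχd]))
    l hl hsolv hnl (P.subtype hPH) hnot
  have hdvd := Char.IsIrr.degree_dvd_card hirr (n := n) (by
    show χ ((1 : H) : E) = n
    rw [OneMemClass.coe_one, ← Blocks.charDegree_cast hχc, hχd])
  exact Nat.not_even_iff_odd.2 (hodd.of_dvd_nat (hdvd.trans (card_subgroup_dvd_card H))) hev

end Cfsg.Agent.OddTrans
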