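import Cfsg.Agent.Char.Linear
import Cfsg.Agent.Char.Gen
import Cfsg.Agent.Char.Perm
import Cfsg.Agent.Char.Galois

/-!
# Irreducible characters of degree three of groups of odd order are monomial
-/

set_option autoImplicit false

namespace Cfsg.Agent.OddTrans

open scoped ComplexConjugate
open Cfsg Cfsg.Agent

universe u

variable {G : Type u} [Group G] [Fintype G]

open scoped Classical in
/-- A normal subgroup of index three, five or nine whose commutators lie in the kernel. -/
theorem exists_monomial_three (hodd : Odd (Nat.card G)) (ψ : IrrCharacter G)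
    (h3 : (ψ : G → ℂ) 1 = 3) :
    ∃ K : Subgroup G, K.Normal ∧ (K.index = 3 ∨ K.index = 5 ∨ K.index = 9) ∧
      ∀ a ∈ K, ∀ b ∈ K, (ψ : G → ℂ) (a * b * a⁻¹ * b⁻¹) = (ψ : G → ℂ) 1 := by
  have hψc := Char.IsIrr.isCharacter ψ.2
  have hΨ : IsCharacter G ((ψ : G → ℂ) * fun g => conj ((ψ : G → ℂ) g)) :=
    Char.isCharacter_mul hψc (Char.isCharacter_conj hψc)
  set Ψ : G → ℂ := (ψ : G → ℂ) * fun g => conj ((ψ : G → ℂ) g) with hΨdef
  obtain ⟨m, hm, hexp, -⟩ := Char.IsChar.exists_mult hΨ
  choose d hd0 hd using fun φ : IrrCharacter G => Char.IsIrr.degree φ.2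
  let one : IrrCharacter G := ⟨fun _ => 1, Char.isIrrCharacter_one⟩
  have hm1 : m one = 1 := by
    have h := hm one
    have h2 : classInner Ψ (one : G → ℂ) = classInner (ψ : G → ℂ) (ψ : G → ℂ) := by
      simp [classInner, hΨdef, one]
    rw [h2, Char.classInner_irr_self ψ.2] at h
    exact_mod_cast h.symm
  have hsum : ∑ φ, m φ * d φ = 9 := by
    have h := congrFun hexp 1
    simp only [Finset.sum_apply, Pi.smul_apply, smul_eq_mul, hΨdef, Pi.mul_apply, h3] at h
    have h9 : (3 : ℂ) * conj (3 : ℂ) = 9 := by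
      rw [map_ofNat]; norm_num
    rw [h9] at h
    simp only [hd] at h
    exact_mod_cast h.symm
  have hdodd : ∀ φ : IrrCharacter G, Odd (d φ) := fun φ =>
    hodd.of_dvd_nat (Char.IsIrr.degree_dvd_card φ.2 (hd φ))
  obtain ⟨lam, hl1, hlm, hlam⟩ : ∃ φ, d φ = 1 ∧ m φ ≠ 0 ∧ φ ≠ one := by
    by_contra! hcon
    obtain ⟨φ, hφm, hφ⟩ : ∃ φ, m φ ≠ 0 ∧ φ ≠ one := by
      by_contra! h
      have : ∑ φ, m φ * d φ = m one * d one := Finset.sum_eq_single one
        (fun φ _ hne => by rw [show m φ = 0 from by_contra fun h0 => hne (h φ h0), zero_mul])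
        (by simp)
      have hd1 : d one = 1 := Nat.cast_injective (R := ℂ) (by rw [← hd one, Nat.cast_one])
      rw [hsum, hm1, hd1] at this
      omega
    set φ' : IrrCharacter G := ⟨fun g => conj ((φ : G → ℂ) g), Char.isIrr_map (starRingEnd ℂ) φ.2⟩ with hφ'
    have hne : φ' ≠ φ := fun e => hφ (Subtype.ext (Char.real_irr_eq_one hodd φ.2 fun g => by
      have h1 := congrFun (congrArg Subtype.val e) g
      exact Complex.conj_eq_iff_im.1 h1))
    have hne1 : φ' ≠ one := fun e => hφ (Subtype.ext (funext fun g => by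
      have h1 := congrArg conj (congrFun (congrArg Subtype.val e) g)
      simpa [hφ', one] using h1))
    have hdeq : d φ' = d φ := by
      have h1 := hd φ'
      rw [show (φ' : G → ℂ) 1 = conj ((φ : G → ℂ) 1) from rfl, hd φ, Complex.conj_natCast] at h1
      exact_mod_cast h1.symm
    have hmeq : m φ' = m φ := by
      have h1 := hm φ'
      have h2 : classInner Ψ (φ' : G → ℂ) = conj (classInner Ψ (φ : G → ℂ)) := by
        simp only [classInner, hΨdef, hφ', map_mul, map_sum, map_inv₀, Complex.conj_natCast,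
          Pi.mul_apply, Complex.conj_conj]
        congr 1
        exact Finset.sum_congr rfl fun g _ => by ring
      rw [h2, hm φ, Complex.conj_natCast] at h1
      exact_mod_cast h1.symm
    have hd3 : ∀ φ : IrrCharacter G, m φ ≠ 0 → φ ≠ one → 3 ≤ d φ := fun φ h1 h2 => by
      have h4 := hdodd φ
      have h5 : d φ ≠ 1 := fun e => h2 (hcon φ e h1)
      rcases h4 with ⟨k, hk⟩
      omega
    have hrest : ∑ φ ∈ ((Finset.univ.erase one).erase φ).erase φ', m φ * d φ = 8 - 2 * (m φ * d φ) ∧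
        2 * (m φ * d φ) ≤ 8 := by
      have e1 := Finset.add_sum_erase (f := fun φ => m φ * d φ) _ (Finset.mem_univ one)
      have e2 := Finset.add_sum_erase (f := fun φ => m φ * d φ) _
        (Finset.mem_erase.2 ⟨hφ, Finset.mem_univ φ⟩)
      have e3 := Finset.add_sum_erase (f := fun φ => m φ * d φ) _
        (Finset.mem_erase.2 ⟨hne, Finset.mem_erase.2 ⟨hne1, Finset.mem_univ φ'⟩⟩)
      have hd1 : d one = 1 := Nat.cast_injective (R := ℂ) (by rw [← hd one, Nat.cast_one])
      simp only [hm1, hd1, hmeq, hdeq, hsum] at e1 e2 e3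
      omega
    have h33 := hd3 φ hφm hφ
    have hmd : m φ * d φ = 3 := by
      have : d φ ≤ m φ * d φ := Nat.le_mul_of_pos_left _ (Nat.pos_of_ne_zero hφm)
      obtain ⟨k, hk⟩ := hdodd φ
      rcases Nat.eq_or_lt_of_le (Nat.pos_of_ne_zero hφm) with h | h
      · have h' : m φ = 1 := h.symm
        rw [h', one_mul] at this hrest ⊢
        omega
      · have : 2 * d φ ≤ m φ * d φ := Nat.mul_le_mul_right _ h
        omega
    rw [hmd] at hrest
    obtain ⟨χ, hχ, hχ0⟩ := Finset.exists_ne_zero_of_sum_ne_zero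
      (f := fun φ => m φ * d φ) (show ∑ φ ∈ ((Finset.univ.erase one).erase φ).erase φ',
        m φ * d φ ≠ 0 by omega)
    have h1 := Finset.single_le_sum (f := fun φ => m φ * d φ) (fun _ _ => Nat.zero_le _) hχ
    simp only [Finset.mem_erase] at hχ
    have h4 := hd3 χ (fun h => hχ0 (by simp [h])) hχ.2.2.1
    have h5 : d χ ≤ m χ * d χ :=
      Nat.le_mul_of_pos_left _ (Nat.pos_of_ne_zero fun h => hχ0 (by simp [h]))
    omega
  have hl1' : (lam : G → ℂ) 1 = 1 := by rw [hd lam, hl1, Nat.cast_one]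
  obtain ⟨f, hf⟩ := Char.IsChar.exists_hom (Char.IsIrr.isCharacter lam.2) hl1'
  -- the twist fixes the character
  have hΞc : IsCharacter G ((ψ : G → ℂ) * (lam : G → ℂ)) :=
    Char.isCharacter_mul hψc (Char.IsIrr.isCharacter lam.2)
  obtain ⟨n, hn, hnexp, hnsq⟩ := Char.IsChar.exists_mult hΞc
  have hlsq : ∀ g, (lam : G → ℂ) g * conj ((lam : G → ℂ) g) = 1 := fun g => by
    have h1 : ((f g : ℂˣ) : ℂ) ^ orderOf g = 1 := by
      rw [← Units.val_pow_eq_pow_val, ← map_pow, pow_orderOf_eq_one, map_one, Units.val_one]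
    rw [hf, Complex.mul_conj, Complex.normSq_eq_norm_sq,
      Complex.norm_eq_one_of_pow_eq_one h1 (orderOf_pos g).ne']
    simp
  have hsq : ∑ φ, n φ ^ 2 = 1 := by
    have h : classInner ((ψ : G → ℂ) * (lam : G → ℂ)) ((ψ : G → ℂ) * (lam : G → ℂ)) =
        classInner (ψ : G → ℂ) (ψ : G → ℂ) := by
      simp only [classInner, Pi.mul_apply, map_mul]
      congr 1
      refine Finset.sum_congr rfl fun g _ => ?_
      linear_combination ((ψ : G → ℂ) g * conj ((ψ : G → ℂ) g)) * hlsq g
    rw [hnsq, Char.classInner_irr_self ψ.2] at h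
    exact_mod_cast h
  have hnψ : n ψ ≠ 0 := fun h0 => hlm (by
    have h1 := hn ψ
    have h2 : classInner ((ψ : G → ℂ) * (lam : G → ℂ)) (ψ : G → ℂ) =
        conj (classInner Ψ (lam : G → ℂ)) := by
      simp only [classInner, hΨdef, Pi.mul_apply, map_mul, map_sum, map_inv₀, Complex.conj_natCast,
        Complex.conj_conj]
      congr 1
      exact Finset.sum_congr rfl fun g _ => by ring
    rw [h2, hm lam, Complex.conj_natCast, h0] at h1
    exact_mod_cast h1)
  have hzero : ∀ φ, φ ≠ ψ → n φ = 0 := fun φ hne => by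
    have h1 := Finset.add_sum_erase (f := fun φ => n φ ^ 2) _ (Finset.mem_univ ψ)
    have h2 : 1 ≤ n ψ ^ 2 := Nat.one_le_pow _ _ (Nat.pos_of_ne_zero hnψ)
    have h3 := Finset.single_le_sum (f := fun φ => n φ ^ 2) (fun _ _ => Nat.zero_le _)
      (Finset.mem_erase.2 ⟨hne, Finset.mem_univ φ⟩)
    simp only [hsq] at h1 h3
    exact pow_eq_zero_iff two_ne_zero |>.1 (by omega : n φ ^ 2 = 0)
  have hn1 : n ψ = 1 := by
    have h := Finset.sum_eq_single (f := fun φ => n φ ^ 2) (s := Finset.univ) ψ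
      (fun φ _ hne => by simp [hzero φ hne]) (by simp)
    simp only [hsq] at h
    nlinarith
  have htw : ∀ g, (ψ : G → ℂ) g * (lam : G → ℂ) g = (ψ : G → ℂ) g := fun g => by
    have h := congrFun hnexp g
    simp only [Pi.mul_apply, Finset.sum_apply, Pi.smul_apply, smul_eq_mul] at h
    rw [h, Finset.sum_eq_single ψ (fun φ _ hne => by simp [hzero φ hne]) (by simp), hn1,
      Nat.cast_one, one_mul]
  -- the kernel of the twist
  set K := f.ker with hK
  have hvan : ∀ g, g ∉ K → (ψ : G → ℂ) g = 0 := fun g hg => by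
    have h := htw g
    have hne : (lam : G → ℂ) g ≠ 1 := fun e => hg (MonoidHom.mem_ker.2 (Units.ext (by
      rw [hf] at e; simpa using e)))
    have : (ψ : G → ℂ) g * ((lam : G → ℂ) g - 1) = 0 := by linear_combination h
    exact (mul_eq_zero.1 this).resolve_right (sub_ne_zero.2 hne)
  have hres := Char.isCharacter_res K hψc
  obtain ⟨r, hr, hrexp, hrsq⟩ := Char.IsChar.exists_mult hres
  choose e he0 he using fun θ : IrrCharacter K => Char.IsIrr.degree θ.2
  have hidx : ∑ θ, r θ ^ 2 = K.index := by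
    have h1 : ∑ k : K, (ψ : G → ℂ) k * conj ((ψ : G → ℂ) k) = (Nat.card G : ℂ) := by
      rw [← Finset.sum_subtype (Finset.univ.filter (· ∈ K)) (fun g => by simp)
        (fun g => (ψ : G → ℂ) g * conj ((ψ : G → ℂ) g)),
        Finset.sum_subset (Finset.subset_univ _) fun g _ hg => by
          rw [hvan g (fun h => hg (by simp [h])), zero_mul]]
      have h2 := Char.classInner_irr_self ψ.2
      rw [classInner, inv_mul_eq_iff_eq_mul₀ Char.card_ne_zero, mul_one] at h2
      exact h2
    rw [classInner, h1, inv_mul_eq_iff_eq_mul₀ Char.card_ne_zero, ← Subgroup.card_mul_index K,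
      Nat.cast_mul] at hrsq
    exact_mod_cast (mul_left_cancel₀ (Char.card_ne_zero (G := K)) hrsq).symm
  have hrdeg : ∑ θ, r θ * e θ = 3 := by
    have h := congrFun hrexp 1
    simp only [Finset.sum_apply, Pi.smul_apply, smul_eq_mul, OneMemClass.coe_one, h3, he] at h
    exact_mod_cast h.symm
  have hi : 3 ≤ K.index := by
    have hodd' : Odd K.index := hodd.of_dvd_nat K.index_dvd_card
    have hne : K.index ≠ 1 := fun h1 => hlam (Subtype.ext (funext fun g => by
      have hg : g ∈ K := by rw [Subgroup.index_eq_one.1 h1]; trivial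
      show (lam : G → ℂ) g = 1
      rw [hf]
      show ((f g : ℂˣ) : ℂ) = 1
      rw [MonoidHom.mem_ker.1 hg, Units.val_one]))
    rcases hodd' with ⟨k, hk⟩
    omega
  have hlin : ∀ θ, r θ ≠ 0 → e θ = 1 := by
    intro θ hθ
    by_contra hne
    have h1 := Finset.add_sum_erase (f := fun φ => r φ * e φ) _ (Finset.mem_univ θ)
    have h2 := Finset.add_sum_erase (f := fun φ => r φ ^ 2) _ (Finset.mem_univ θ)
    have h4 : 2 ≤ e θ := by have := he0 θ; omega
    have h5 : r θ * 2 ≤ r θ * e θ := Nat.mul_le_mul_left _ h4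
    have h7 : ∀ φ ∈ Finset.univ.erase θ, r φ ^ 2 ≤ r φ * e φ * (r φ * e φ) := fun φ _ => by
      rw [sq]; exact Nat.mul_le_mul (Nat.le_mul_of_pos_right _ (he0 φ)) (Nat.le_mul_of_pos_right _ (he0 φ))
    simp only [hrdeg, hidx] at h1 h2
    have hr1 : r θ = 1 := by omega
    have hle : ∑ φ ∈ Finset.univ.erase θ, r φ * e φ ≤ 1 := by omega
    have h8 : ∑ φ ∈ Finset.univ.erase θ, r φ ^ 2 ≤ ∑ φ ∈ Finset.univ.erase θ, r φ * e φ :=
      Finset.sum_le_sum fun φ hφ => by
        have h9 := Finset.single_le_sum (f := fun φ => r φ * e φ) (fun _ _ => Nat.zero_le _) hφ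
        have h10 := h7 φ hφ
        have h11 : r φ * e φ ≤ 1 := h9.trans hle
        exact h10.trans (by
          calc r φ * e φ * (r φ * e φ) ≤ r φ * e φ * 1 := Nat.mul_le_mul_left _ h11
            _ = _ := mul_one _)
    rw [hr1] at h2
    omega
  refine ⟨K, inferInstance, ?_, fun a ha b hb => ?_⟩
  · -- the sum of squares of a partition of three
    have hsum1 : ∑ θ, r θ = 3 := by
      rw [← hrdeg]
      exact Finset.sum_congr rfl fun θ _ => by
        by_cases h : r θ = 0 <;> simp [h, hlin θ]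
    set T := Finset.univ.filter (fun θ : IrrCharacter K => r θ ≠ 0) with hT
    have hT1 : ∑ θ ∈ T, r θ = 3 := by rw [hT, Finset.sum_filter_ne_zero]; exact hsum1
    have hT2 : ∑ θ ∈ T, r θ ^ 2 = K.index := by
      rw [← hidx]
      exact Finset.sum_subset (Finset.subset_univ _) fun θ _ h => by
        rw [hT] at h; simp at h; simp [h]
    have hTc : T.card ≤ 3 := by
      rw [← hT1, Finset.card_eq_sum_ones]
      exact Finset.sum_le_sum fun θ hθ => by
        rw [hT] at hθ; simp at hθ; omega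
    have hpos : ∀ θ ∈ T, 1 ≤ r θ := fun θ hθ => by rw [hT] at hθ; simp at hθ; omega
    rcases (show T.card = 0 ∨ T.card = 1 ∨ T.card = 2 ∨ T.card = 3 by omega) with h | h | h | h
    · rw [Finset.card_eq_zero.1 h] at hT1; simp at hT1
    · obtain ⟨x, hx⟩ := Finset.card_eq_one.1 h
      rw [hx, Finset.sum_singleton] at hT1 hT2
      rw [hT1] at hT2; omega
    · obtain ⟨x, y, hxy, hx⟩ := Finset.card_eq_two.1 h
      rw [hx, Finset.sum_pair hxy] at hT1 hT2
      have hxp := hpos x (by rw [hx]; simp)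
      have hyp := hpos y (by rw [hx]; simp)
      rcases (show r x = 1 ∧ r y = 2 ∨ r x = 2 ∧ r y = 1 by omega) with ⟨e1, e2⟩ | ⟨e1, e2⟩ <;>
        (rw [e1, e2] at hT2; omega)
    · left
      rw [← hT2, ← h, Finset.card_eq_sum_ones]
      refine Finset.sum_congr rfl fun θ hθ => ?_
      have h1 : ∀ φ ∈ T, r φ = 1 := by
        intro φ hφ
        by_contra hne
        have := Finset.sum_lt_sum (f := fun _ => 1) (g := r) hpos
          ⟨φ, hφ, by have := hpos φ hφ; omega⟩
        rw [hT1, ← Finset.card_eq_sum_ones, h] at this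
        omega
      rw [h1 θ hθ, one_pow]
  · set c : K := ⟨a, ha⟩ * ⟨b, hb⟩ * ⟨a, ha⟩⁻¹ * ⟨b, hb⟩⁻¹ with hc
    have h1 : ∀ θ, r θ ≠ 0 → (θ : K → ℂ) c = (θ : K → ℂ) 1 := fun θ hθ => by
      obtain ⟨φ, hφ⟩ := Char.IsChar.exists_hom (Char.IsIrr.isCharacter θ.2)
        (by rw [he θ, hlin θ hθ, Nat.cast_one])
      rw [hφ, hc]
      simp only [map_mul, map_inv, map_one]
      rw [mul_comm (φ _) (φ _), mul_inv_cancel_right, mul_inv_cancel, Units.val_one]
    have e1 : (ψ : G → ℂ) (c : G) = (ψ : G → ℂ) ((1 : K) : G) := by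
      rw [congrFun hrexp c, congrFun hrexp 1]
      simp only [Finset.sum_apply, Pi.smul_apply, smul_eq_mul]
      exact Finset.sum_congr rfl fun θ _ => by
        by_cases h : r θ = 0
        · simp [h]
        · rw [h1 θ h]
    exact e1

end Cfsg.Agent.OddTrans
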