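import Cfsg.Agent.BlockChar.EqualDegree.Lift
import Cfsg.Agent.Blocks.ClassMatrix
import Cfsg.Agent.Char.Linear

/-!
# A complex character of a cyclic module of an odd-order group over two elements

The module is a summand of the group algebra, cut out by an idempotent; a lift of that idempotent
to the local ring gives multiplicities of irreducible characters with the same degree and with
the same subgroups having fixed points.
-/

set_option autoImplicit false

namespace Cfsg.Agent.OddTrans

open scoped ComplexConjugate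
open Cfsg.Agent Cfsg.Agent.Blocks Cfsg.Agent.BlockChar.ResidueBlock
open Cfsg.Agent.BlockChar.EqualDegree (evC evC_idem exists_idem_lift finrank_sand sand sand_apply)

universe u v

attribute [local instance] Ideal.Quotient.field

set_option synthInstance.maxHeartbeats 400000
set_option maxHeartbeats 1000000

variable {E : Type u} [Group E] [Fintype E] {V : Type v} [AddCommGroup V] [Module (ZMod 2) V]
  [Finite V] (ρ : E →* (V ≃ₗ[ZMod 2] V))

theorem natCast_eq_one_of_odd {R : Type*} [Ring R] [CharP R 2] {k : ℕ} (hk : Odd k) :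
    (k : R) = 1 := by
  obtain ⟨j, rfl⟩ := hk
  have h2 : (2 : R) = 0 := by simpa using CharP.cast_eq_zero R 2
  push_cast
  rw [h2, zero_mul, zero_add]

open scoped Classical in
/-- Multiplicities lifting a cyclic module. -/
theorem exists_lift (hodd : Odd (Nat.card E)) (v₀ : V)
    (hgen : ∀ w : V, w ≠ 0 → ∃ g, ρ g v₀ = w) :
    ∃ m : Cfsg.IrrCharacter E → ℕ,
      ∑ ψ, m ψ * Cfsg.charDegree (ψ : E → ℂ) = Module.finrank (ZMod 2) V ∧
      (∀ g, (∀ ψ : Cfsg.IrrCharacter E, m ψ ≠ 0 → (ψ : E → ℂ) g = (ψ : E → ℂ) 1) → ρ g = 1) ∧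
      ∀ H : Subgroup E, (∀ v, (∀ h ∈ H, ρ h v = v) → v = 0) →
        ∀ ψ : Cfsg.IrrCharacter E, m ψ ≠ 0 → ∑ h : H, (ψ : E → ℂ) h = 0 := by
  classical
  obtain ⟨M, hM⟩ := Blocks.exists_isPModular 2 Nat.prime_two
  have : M.IsMaximal := hM.2.1
  have : Fact (Nat.Prime 2) := ⟨Nat.prime_two⟩
  have := charP_residueField hM
  -- the map onto the module
  let f : E →* Module.End (ZMod 2) V :=
    { toFun := fun g => (ρ g).toLinearMap
      map_one' := by rw [map_one]; rfl
      map_mul' := fun a b => by rw [map_mul]; rfl }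
  have hf : ∀ g v, f g v = ρ g v := fun _ _ => rfl
  let π : MonoidAlgebra (ZMod 2) E →ₗ[ZMod 2] V :=
    (LinearMap.applyₗ v₀).comp (MonoidAlgebra.lift (ZMod 2) (Module.End (ZMod 2) V) E f).toLinearMap
  have hπ : ∀ g, π (MonoidAlgebra.single g 1) = ρ g v₀ := fun g => by
    simp [π, hf]
  have hπmul : ∀ g z, π (MonoidAlgebra.single g 1 * z) = ρ g (π z) := fun g z => by
    simp [π, hf]
  have hsurj : LinearMap.range π = ⊤ := Submodule.eq_top_iff'.2 fun w => by
    by_cases hw : w = 0
    · rw [hw]; exact zero_mem _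
    · obtain ⟨g, hg⟩ := hgen w hw
      exact ⟨_, (hπ g).trans hg⟩
  -- an equivariant section
  obtain ⟨s₀, hs₀⟩ := π.exists_rightInverse_of_surjective hsurj
  have hs₀' : ∀ v, π (s₀ v) = v := fun v => LinearMap.congr_fun hs₀ v
  let s : V →ₗ[ZMod 2] MonoidAlgebra (ZMod 2) E :=
    ∑ g : E, (LinearMap.mulLeft (ZMod 2) (MonoidAlgebra.single g 1)).comp (s₀.comp (f g⁻¹))
  have hsdef : ∀ v, s v = ∑ g : E, MonoidAlgebra.single g 1 * s₀ (ρ g⁻¹ v) := fun v => by
    simp [s, hf]
  have hs : ∀ v, π (s v) = v := fun v => by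
    have h1 : ∀ g : E, π (MonoidAlgebra.single g 1 * s₀ (ρ g⁻¹ v)) = v := fun g => by
      rw [hπmul, hs₀', ← LinearEquiv.mul_apply, ← map_mul, mul_inv_cancel, map_one]
      rfl
    rw [hsdef, map_sum, Finset.sum_congr rfl fun g _ => h1 g, Finset.sum_const, Finset.card_univ,
      ← Nat.card_eq_fintype_card, ← Nat.cast_smul_eq_nsmul (ZMod 2),
      natCast_eq_one_of_odd hodd, one_smul]
  have hsg : ∀ g v, s (ρ g v) = MonoidAlgebra.single g 1 * s v := fun g v => by
    rw [hsdef, hsdef, Finset.mul_sum]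
    refine (Fintype.sum_equiv (Equiv.mulLeft g) _ _ fun a => ?_).symm
    rw [Equiv.coe_mulLeft, ← mul_assoc, MonoidAlgebra.single_mul_single, one_mul, mul_inv_rev,
      map_mul, LinearEquiv.mul_apply, ← LinearEquiv.mul_apply (ρ g⁻¹), ← map_mul, inv_mul_cancel,
      map_one]
    rfl
  set e₀ := s v₀ with he₀
  have hze : ∀ z, z * e₀ = s (π z) := by
    intro z
    induction z using MonoidAlgebra.induction_on with
    | of g => rw [MonoidAlgebra.of_apply, hπ, hsg]
    | add a b ha hb => rw [add_mul, map_add, map_add, ha, hb]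
    | smul r a ha => rw [smul_mul_assoc, map_smul, map_smul, ha]
  have hee : e₀ * e₀ = e₀ := by rw [hze, he₀, hs]
  have hsinj : Function.Injective s := Function.LeftInverse.injective hs
  set W := LinearMap.range (LinearMap.mulRight (ZMod 2) e₀) with hWdef
  set Q := LinearMap.range (LinearMap.mulRight (ZMod 2) (1 - e₀)) with hQdef
  have hW : Module.finrank (ZMod 2) W = Module.finrank (ZMod 2) V := by
    have h : W = LinearMap.range s := by
      ext x
      constructor
      · rintro ⟨z, rfl⟩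
        exact ⟨π z, (hze z).symm⟩
      · rintro ⟨v, rfl⟩
        exact ⟨s v, by rw [LinearMap.mulRight_apply, hze, hs]⟩
    rw [h, LinearMap.finrank_range_of_inj hsinj]
  have : FiniteDimensional (ZMod 2) (MonoidAlgebra (ZMod 2) E) :=
    Module.Finite.of_basis (MonoidAlgebra.basis E (ZMod 2))
  have hWQ : Module.finrank (ZMod 2) W + Module.finrank (ZMod 2) Q = Fintype.card E := by
    have h : Q = LinearMap.ker (LinearMap.mulRight (ZMod 2) e₀) := by
      ext x
      constructor
      · rintro ⟨z, rfl⟩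
        rw [LinearMap.mem_ker, LinearMap.mulRight_apply, LinearMap.mulRight_apply, mul_assoc,
          sub_mul, one_mul, hee, sub_self, mul_zero]
      · intro hx
        rw [LinearMap.mem_ker, LinearMap.mulRight_apply] at hx
        exact ⟨x, by rw [LinearMap.mulRight_apply, mul_sub, hx, mul_one, sub_zero]⟩
    rw [hWdef, h, LinearMap.finrank_range_add_finrank_ker]
    exact Module.finrank_eq_card_basis (MonoidAlgebra.basis E (ZMod 2))
  -- over the residue field
  set φ : ZMod 2 →+* Cfsg.AlgInt ⧸ M := ZMod.castHom dvd_rfl _ with hφ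
  set Φ := MonoidAlgebra.mapRingHom E φ with hΦ
  have hΦi : Function.Injective Φ := fun x y h => by
    refine MonoidAlgebra.coeff_injective (Finsupp.ext fun g => φ.injective ?_)
    simpa [hΦ, MonoidAlgebra.coeff_mapRingHom] using
      congrArg (fun w : MonoidAlgebra (Cfsg.AlgInt ⧸ M) E => w.coeff g) h
  have hΦs : ∀ (c : ZMod 2) x, Φ (c • x) = φ c • Φ x := fun c x => by
    refine MonoidAlgebra.coeff_injective (Finsupp.ext fun g => ?_)
    simp [hΦ, MonoidAlgebra.coeff_mapRingHom]
  have hspan : ∀ (c : MonoidAlgebra (ZMod 2) E),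
      Module.finrank (Cfsg.AlgInt ⧸ M)
        (LinearMap.range (LinearMap.mulRight (Cfsg.AlgInt ⧸ M) (Φ c))) ≤
      Module.finrank (ZMod 2) (LinearMap.range (LinearMap.mulRight (ZMod 2) c)) := by
    intro c
    set W' := LinearMap.range (LinearMap.mulRight (ZMod 2) c) with hW'
    let b := Module.finBasis (ZMod 2) W'
    let w : Fin (Module.finrank (ZMod 2) W') → MonoidAlgebra (Cfsg.AlgInt ⧸ M) E :=
      fun j => Φ (b j : MonoidAlgebra (ZMod 2) E)
    have hle : LinearMap.range (LinearMap.mulRight (Cfsg.AlgInt ⧸ M) (Φ c)) ≤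
        Submodule.span (Cfsg.AlgInt ⧸ M) (Set.range w) := by
      rintro _ ⟨z, rfl⟩
      rw [LinearMap.mulRight_apply]
      induction z using MonoidAlgebra.induction_on with
      | of g =>
        have hx : MonoidAlgebra.single g 1 * c ∈ W' := ⟨_, rfl⟩
        have hg : MonoidAlgebra.of (Cfsg.AlgInt ⧸ M) E g * Φ c =
            Φ (MonoidAlgebra.single g 1 * c) := by
          rw [map_mul]
          congr 1
          refine MonoidAlgebra.coeff_injective (Finsupp.ext fun y => ?_)
          simp [hΦ, Finsupp.single_apply]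
        have he := congrArg Subtype.val (b.sum_repr ⟨_, hx⟩)
        rw [AddSubmonoidClass.coe_finsetSum] at he
        simp only [SetLike.val_smul] at he
        rw [hg, ← he, map_sum]
        exact Submodule.sum_mem _ fun j _ => by
          rw [hΦs]; exact Submodule.smul_mem _ _ (Submodule.subset_span ⟨j, rfl⟩)
      | add a a' ha ha' => rw [add_mul]; exact Submodule.add_mem _ ha ha'
      | smul r a ha => rw [smul_mul_assoc]; exact Submodule.smul_mem _ r ha
    refine (Submodule.finrank_mono hle).trans ((finrank_range_le_card w).trans ?_)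
    rw [Fintype.card_fin]
  set ε := Φ e₀ with hε
  have : FiniteDimensional (Cfsg.AlgInt ⧸ M) (MonoidAlgebra (Cfsg.AlgInt ⧸ M) E) :=
    Module.Finite.of_basis (MonoidAlgebra.basis E (Cfsg.AlgInt ⧸ M))
  set R := LinearMap.range (LinearMap.mulRight (Cfsg.AlgInt ⧸ M) ε) with hRdef
  have hR : Module.finrank (Cfsg.AlgInt ⧸ M) R = Module.finrank (ZMod 2) V := by
    refine le_antisymm ((hspan e₀).trans hW.le) ?_
    have htop : R ⊔ LinearMap.range (LinearMap.mulRight (Cfsg.AlgInt ⧸ M) (Φ (1 - e₀))) = ⊤ := by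
      refine Submodule.eq_top_iff'.2 fun z => ?_
      refine Submodule.mem_sup.2 ⟨z * ε, ⟨z, rfl⟩, z * Φ (1 - e₀), ⟨z, rfl⟩, ?_⟩
      rw [hε, ← mul_add, ← map_add, add_sub_cancel, map_one, mul_one]
    have h1 := Submodule.finrank_add_le_finrank_add_finrank R
      (LinearMap.range (LinearMap.mulRight (Cfsg.AlgInt ⧸ M) (Φ (1 - e₀))))
    rw [htop, finrank_top, Module.finrank_eq_card_basis (MonoidAlgebra.basis E _)] at h1
    have h2 := hspan (1 - e₀)
    rw [← hQdef] at h2
    omega
  have hεε : ε * ε = ε := by rw [hε, ← map_mul, hee]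
  obtain ⟨F, hFR, hFF, hres⟩ := exists_idem_lift hM hεε
  choose m hm using fun ψ : Cfsg.IrrCharacter E => evC_idem (Char.IsIrr.isCharacter ψ.2) hFF
  -- averages over subgroups
  have key : ∀ H : Subgroup E, ∃ k : Cfsg.IrrCharacter E → ℕ,
      (∀ ψ : Cfsg.IrrCharacter E, (Nat.card H : ℂ) * k ψ = ∑ h : H, (ψ : E → ℂ) h) ∧
      Module.finrank (Cfsg.AlgInt ⧸ M)
        (LinearMap.range (sand (Φ (∑ h : H, MonoidAlgebra.single (h : E) 1)) ε)) =
        ∑ ψ, k ψ * m ψ := by
    intro H
    have hH : Odd (Nat.card H) := hodd.of_dvd_nat (Subgroup.card_subgroup_dvd_card H)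
    have hH0 : (Nat.card H : ℂ) ≠ 0 := Nat.cast_ne_zero.2 Nat.card_pos.ne'
    set a : E → ℂ := fun g => if g ∈ H then (Nat.card H : ℂ)⁻¹ else 0 with ha
    have hsum : ∀ F : E → ℂ, ∑ g, a g * F g = (Nat.card H : ℂ)⁻¹ * ∑ h : H, F h := by
      intro F
      simp only [ha, ite_mul, zero_mul]
      rw [← Finset.sum_filter, Finset.mul_sum]
      exact (Finset.sum_subtype (Finset.univ.filter (· ∈ H)) (fun g => by simp)
        (fun g => (Nat.card H : ℂ)⁻¹ * F g))
    have haa : conv a a = a := by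
      funext z
      rw [conv, hsum]
      by_cases hz : z ∈ H
      · rw [Finset.sum_congr rfl fun (h : H) _ => show a ((h : E)⁻¹ * z) = (Nat.card H : ℂ)⁻¹ from
          if_pos (mul_mem (inv_mem h.2) hz), Finset.sum_const, Finset.card_univ,
          ← Nat.card_eq_fintype_card, nsmul_eq_mul, mul_inv_cancel₀ hH0, mul_one]
        exact (if_pos hz).symm
      · rw [Finset.sum_congr rfl fun (h : H) _ => show a ((h : E)⁻¹ * z) = 0 from
          if_neg fun h' => hz (by simpa using mul_mem h.2 h'), Finset.sum_const_zero, mul_zero]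
        exact (if_neg hz).symm
    have hinv : Cfsg.MemLocalRing M (Nat.card H : ℂ)⁻¹ ∧ resFun hM (Nat.card H : ℂ)⁻¹ = 1 := by
      have hmem : Cfsg.MemLocalRing M (Nat.card H : ℂ) := natCast_mem (localRing hM) _
      have hr : resFun hM (Nat.card H : ℂ) = 1 := by
        rw [resFun_natCast]; exact natCast_eq_one_of_odd hH
      have hni : ¬ Cfsg.MemLocalIdeal M (Nat.card H : ℂ) := fun h => by
        rw [(resFun_eq_zero_iff hM hmem).2 h] at hr
        exact zero_ne_one hr
      have hinv := memLocalRing_inv hmem hni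
      refine ⟨hinv, ?_⟩
      have h1 : resFun hM ((Nat.card H : ℂ)⁻¹ * (Nat.card H : ℂ)) =
          resFun hM (Nat.card H : ℂ)⁻¹ * resFun hM (Nat.card H : ℂ) := resFun_mul hM hinv hmem
      rw [inv_mul_cancel₀ hH0, hr, mul_one] at h1
      rw [← h1]
      simpa using resFun_natCast hM 1
    have haR : ∀ g, Cfsg.MemLocalRing M (a g) := fun g => by
      simp only [ha]
      split_ifs
      exacts [hinv.1, (localRing hM).zero_mem]
    have hra : res hM a = Φ (∑ h : H, MonoidAlgebra.single (h : E) 1) := by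
      refine MonoidAlgebra.coeff_injective (Finsupp.ext fun g => ?_)
      rw [coeff_res, hΦ, MonoidAlgebra.coeff_mapRingHom, MonoidAlgebra.coeff_sum,
        Finsupp.finsetSum_apply]
      simp only [MonoidAlgebra.coeff_single, Finsupp.single_apply, ha]
      split_ifs with hg
      · rw [hinv.2, Finset.sum_eq_single ⟨g, hg⟩ (fun h _ hne => if_neg fun e' => hne (Subtype.ext e'))
          (by simp), if_pos rfl, map_one]
      · rw [(resFun_eq_zero_iff hM (localRing hM).zero_mem).2 (memLocalIdeal_zero hM),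
          Finset.sum_eq_zero fun (h : H) _ => if_neg fun e' => hg (by rw [← e']; exact h.2), map_zero]
    choose k hk using fun ψ : Cfsg.IrrCharacter E => evC_idem (Char.IsIrr.isCharacter ψ.2) haa
    refine ⟨k, fun ψ => ?_, ?_⟩
    · rw [← hk ψ, evC, hsum, mul_inv_cancel_left₀ hH0]
    · have h := finrank_sand hM haR haa hFR hFF
      simp only [hk, hm] at h
      rw [hres, hra] at h
      exact_mod_cast h
  have hdeg : ∀ ψ : Cfsg.IrrCharacter E,
      (Cfsg.charDegree (ψ : E → ℂ) : ℂ) = (ψ : E → ℂ) 1 := fun ψ => by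
    obtain ⟨n, -, hn⟩ := Char.IsIrr.degree ψ.2
    rw [Cfsg.charDegree, hn]
    simp
  have hn : ∑ ψ, m ψ * Cfsg.charDegree (ψ : E → ℂ) = Module.finrank (ZMod 2) V := by
    obtain ⟨H, hH⟩ : ∃ H : Subgroup E, H = ⊥ := ⟨⊥, rfl⟩
    have : Subsingleton H := by rw [hH]; infer_instance
    obtain ⟨k, hk, hfr⟩ := key H
    have hk1 : ∀ ψ, k ψ = Cfsg.charDegree (ψ : E → ℂ) := fun ψ => by
      have h := hk ψ
      rw [Nat.card_unique, Nat.cast_one, one_mul, Fintype.sum_subsingleton _ 1,
        OneMemClass.coe_one,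
        ← hdeg] at h
      exact_mod_cast h
    rw [Fintype.sum_subsingleton _ 1, OneMemClass.coe_one, ← MonoidAlgebra.one_def, map_one] at hfr
    have h2 : sand 1 ε = LinearMap.mulRight (Cfsg.AlgInt ⧸ M) ε :=
      LinearMap.ext fun z => by rw [sand_apply, one_mul]; rfl
    rw [h2, ← hRdef, hR] at hfr
    rw [hfr]
    exact Finset.sum_congr rfl fun ψ _ => by rw [hk1, mul_comm]
  refine ⟨m, hn, fun g hg => ?_, fun H hH ψ hψ => ?_⟩
  · set H := Subgroup.zpowers g
    obtain ⟨k, hk, hfr⟩ := key H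
    set a₀ := ∑ h : H, MonoidAlgebra.single (h : E) (1 : ZMod 2)
    have hk1 : ∀ ψ, k ψ * m ψ = m ψ * Cfsg.charDegree (ψ : E → ℂ) := fun ψ => by
      by_cases h0 : m ψ = 0
      · simp [h0]
      have hle : H ≤ Char.kerSubgroup (Char.IsIrr.isCharacter ψ.2) :=
        Subgroup.zpowers_le.2 (hg ψ h0)
      have h := hk ψ
      rw [Finset.sum_congr rfl fun (x : H) _ =>
        (Char.mem_kerSubgroup (Char.IsIrr.isCharacter ψ.2)).1 (hle x.2), Finset.sum_const,
        Finset.card_univ, ← Nat.card_eq_fintype_card, nsmul_eq_mul, ← hdeg] at h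
      rw [show k ψ = Cfsg.charDegree (ψ : E → ℂ) from by
        exact_mod_cast mul_left_cancel₀ (Nat.cast_ne_zero.2 Nat.card_pos.ne') h, mul_comm]
    rw [Finset.sum_congr rfl fun ψ _ => hk1 ψ, hn] at hfr
    have hsub : LinearMap.range (sand (Φ a₀) ε) ≤ R := by
      rintro _ ⟨z, rfl⟩
      exact ⟨Φ a₀ * z, by rw [LinearMap.mulRight_apply, sand_apply, mul_assoc]⟩
    have heq := Submodule.eq_of_le_of_finrank_eq hsub (hfr.trans hR.symm)
    have haa : a₀ * a₀ = a₀ := by
      simp only [a₀, Finset.mul_sum, Finset.sum_mul, MonoidAlgebra.single_mul_single, one_mul]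
      have e : ∀ h : H, ∑ x : H, MonoidAlgebra.single ((x : E) * (h : E)) (1 : ZMod 2) =
          ∑ x : H, MonoidAlgebra.single (x : E) (1 : ZMod 2) := fun h =>
        Fintype.sum_equiv (Equiv.mulRight h) _ _ fun x => rfl
      rw [Finset.sum_congr rfl fun (h : H) _ => e h, Finset.sum_const,
        Finset.card_univ, ← Nat.card_eq_fintype_card, ← Nat.cast_smul_eq_nsmul (ZMod 2),
        natCast_eq_one_of_odd (hodd.of_dvd_nat (Subgroup.card_subgroup_dvd_card H)), one_smul]
    have hfix : ∀ z, a₀ * (z * e₀) = z * e₀ := fun z => by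
      refine hΦi ?_
      have hmem : Φ (z * e₀) ∈ LinearMap.range (sand (Φ a₀) ε) := by
        rw [heq]; exact ⟨Φ z, by rw [LinearMap.mulRight_apply, hε, map_mul]⟩
      obtain ⟨y, hy⟩ := hmem
      rw [sand_apply] at hy
      rw [map_mul Φ a₀, ← hy, ← mul_assoc, ← map_mul, haa]
    refine LinearEquiv.ext fun w => ?_
    show ρ g w = w
    by_cases hw : w = 0
    · rw [hw, map_zero]
    obtain ⟨h, hh⟩ := hgen w hw
    have h1 := congrArg π (hfix (MonoidAlgebra.single h 1))
    rw [hze, hs, hπ, hh] at h1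
    have h2 : MonoidAlgebra.single g 1 * a₀ = a₀ := by
      simp only [a₀, Finset.mul_sum, MonoidAlgebra.single_mul_single, one_mul]
      exact Fintype.sum_equiv (Equiv.mulLeft ⟨g, Subgroup.mem_zpowers g⟩) _ _ fun x => rfl
    conv_lhs => rw [← h1]
    rw [← hπmul, ← mul_assoc, h2, h1]
  · obtain ⟨k, hk, hfr⟩ := key H
    set a₀ := ∑ h : H, MonoidAlgebra.single (h : E) (1 : ZMod 2)
    have h0 : ∀ z, a₀ * z * e₀ = 0 := fun z => by
      rw [hze, hH (π (a₀ * z)) fun x hx => ?_, map_zero]
      have h2 : MonoidAlgebra.single x 1 * a₀ = a₀ := by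
        simp only [a₀, Finset.mul_sum, MonoidAlgebra.single_mul_single, one_mul]
        exact Fintype.sum_equiv (Equiv.mulLeft ⟨x, hx⟩) _ _ fun y => rfl
      rw [← hπmul, ← mul_assoc, h2]
    have hz : sand (Φ a₀) ε = 0 := LinearMap.ext fun z => by
      rw [sand_apply, LinearMap.zero_apply]
      induction z using MonoidAlgebra.induction_on with
      | of g =>
        have hg : MonoidAlgebra.of (Cfsg.AlgInt ⧸ M) E g = Φ (MonoidAlgebra.single g 1) := by
          refine MonoidAlgebra.coeff_injective (Finsupp.ext fun y => ?_)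
          simp [hΦ, Finsupp.single_apply]
        rw [hg, hε, ← map_mul, ← map_mul, ← mul_assoc, h0, map_zero]
      | add a a' ha ha' => rw [add_mul, mul_add, ha, ha', add_zero]
      | smul r a ha => rw [smul_mul_assoc, mul_smul_comm, ha, smul_zero]
    rw [hz, LinearMap.range_zero, finrank_bot] at hfr
    have hk0 : k ψ = 0 :=
      (Nat.mul_eq_zero.1 (Finset.sum_eq_zero_iff.1 hfr.symm ψ (Finset.mem_univ _))).resolve_right hψ
    rw [← hk ψ, hk0, Nat.cast_zero, mul_zero]

end Cfsg.Agent.OddTrans
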