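import Cfsg.Agent.OddTrans.Lift
import Cfsg.Agent.OddTrans.DegThree
import Cfsg.Agent.SolRegular.Field
import Cfsg.Agent.ThreeCharBlock.Linear
import Cfsg.Agent.LocalStructure.Zsigmondy
import Cfsg.Agent.BlockChar.Cyclic.DegreeBoundMain
import Cfsg.Agent.HalfNorm.PSLInvol
import Cfsg.Agent.S4468
import Cfsg.Agent.S4485
import Cfsg.Agent.S4504

/-!
# Groups of odd order transitive on a finite space over two elements are semilinear

No solvability of groups of odd order is used: the character lifting the natural module has small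
degree against a primitive prime, so the Sylow subgroup of that prime is normal.
-/

set_option autoImplicit false

namespace Cfsg.Agent.OddTrans

open Cfsg Cfsg.Agent Subgroup
open scoped commutatorElement
open Cfsg.Agent.SolRegular (Semi)

universe u v

theorem eq_of_le_norm {ι : Type*} (s : Finset ι) (a : ι → ℕ) (z : ι → ℂ) (D : ι → ℕ)
    (hz : ∀ i ∈ s, ‖z i‖ ≤ D i) (h : ∑ i ∈ s, (a i : ℂ) * z i = ∑ i ∈ s, (a i : ℂ) * D i) :
    ∀ i ∈ s, a i ≠ 0 → z i = D i := by
  intro i hi ha
  have h1 := congrArg Complex.re h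
  simp only [Complex.re_sum, Complex.mul_re, Complex.natCast_re, Complex.natCast_im, zero_mul,
    sub_zero] at h1
  have h2 : ∀ j ∈ s, (a j : ℝ) * (z j).re ≤ (a j : ℝ) * D j := fun j hj =>
    mul_le_mul_of_nonneg_left ((Complex.re_le_norm _).trans (hz j hj)) (Nat.cast_nonneg _)
  have h3 := (Finset.sum_eq_sum_iff_of_le h2).1 h1 i hi
  have h4 : (z i).re = D i := mul_left_cancel₀ (Nat.cast_ne_zero.2 ha) h3
  have h5 : (z i).re = ‖z i‖ := le_antisymm (Complex.re_le_norm _) (h4 ▸ hz i hi)
  have h6 := Complex.re_eq_norm.1 h5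
  exact Complex.ext (by rw [h4, Complex.natCast_re]) (by
    rw [Complex.natCast_im]; exact (Complex.le_def.1 h6).2.symm)

/-- A small faithful character of an odd-order group forces a normal subgroup of prime order. -/
theorem normal_small {G : Type u} [Group G] [Finite G] (hodd : Odd (Nat.card G)) {l : ℕ}
    (hl : l.Prime) (hdiv : l ∣ Nat.card G) (hsq : ¬ l ^ 2 ∣ Nat.card G) {χ : G → ℂ}
    (hχ : IsCharacter G χ) (hfaith : ∀ g, χ g = χ 1 → g = 1) (hdeg : 2 * charDegree χ + 1 ≤ l) :
    ∃ H : Subgroup G, H.Normal ∧ Nat.card H = l := by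
  have : Fact l.Prime := ⟨hl⟩
  rcases lt_or_eq_of_le hdeg with h | h
  · exact BlockChar.DegreeBound.exists_normal_of_card (Nat.card G) G rfl hdiv hsq χ hχ hfaith h
  · by_contra hno
    push Not at hno
    obtain ⟨e⟩ := S4504.result l hl hdiv hsq hno χ hχ hfaith h
    have hl2 : l ≠ 2 := fun e2 => by subst e2; omega
    have h1 : Nat.card (G ⧸ center G) ∣ Nat.card G := card_quotient_dvd_card _
    rw [Nat.card_congr e.toEquiv, HalfNorm.card_psl_zmod hl2] at h1
    have h2 : 2 ∣ l + 1 := by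
      obtain ⟨k, hk⟩ := hl.odd_of_ne_two hl2
      omega
    have h3 : 2 ∣ Nat.card G := ((h2.mul_left _)).trans h1
    obtain ⟨k, hk⟩ := hodd
    omega

variable {V : Type v} [AddCommGroup V] [Module (ZMod 2) V] [Finite V] [Nontrivial V]
  {E : Type u} [Group E] [Finite E] (ρ : E →* (V ≃ₗ[ZMod 2] V))

theorem two_pow_sub_one_dvd (htr : ∀ a b : V, a ≠ 0 → b ≠ 0 → ∃ g, ρ g a = b) :
    2 ^ Module.finrank (ZMod 2) V - 1 ∣ Nat.card E := by
  obtain ⟨v, hv⟩ := exists_ne (0 : V)
  letI : MulAction E V :=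
    { smul := fun g w => ρ g w
      one_smul := fun w => by show ρ 1 w = w; rw [map_one]; rfl
      mul_smul := fun g h w => by show ρ (g * h) w = ρ g (ρ h w); rw [map_mul]; rfl }
  have ho : MulAction.orbit E v = {w : V | w ≠ 0} := Set.ext fun w =>
    ⟨by rintro ⟨g, rfl⟩ h; exact hv ((ρ g).map_eq_zero_iff.1 h), fun hw => htr v w hv hw⟩
  refine ⟨Nat.card (MulAction.stabilizer E v), ?_⟩
  rw [← (MulAction.stabilizer E v).index_mul_card, MulAction.index_stabilizer, ho,
    show {w : V | w ≠ 0} = ({0}ᶜ : Set V) from rfl, Set.ncard_compl, Set.ncard_singleton,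
    Module.natCard_eq_pow_finrank (K := ZMod 2), Nat.card_zmod]

open scoped _root_.Classical in
/-- The character of degree the dimension. -/
theorem exists_char [Fintype E] (hρ : Function.Injective ρ) (hodd : Odd (Nat.card E))
    (htr : ∀ a b : V, a ≠ 0 → b ≠ 0 → ∃ g, ρ g a = b) :
    ∃ (χ : E → ℂ) (m : IrrCharacter E → ℕ), IsCharacter E χ ∧
      charDegree χ = Module.finrank (ZMod 2) V ∧ (∀ g, χ g = χ 1 → g = 1) ∧
      ∑ ψ, m ψ * charDegree (ψ : E → ℂ) = Module.finrank (ZMod 2) V ∧
      (∀ g, (∀ ψ : IrrCharacter E, m ψ ≠ 0 → (ψ : E → ℂ) g = (ψ : E → ℂ) 1) → g = 1) ∧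
      ∀ H : Subgroup E, (∀ v, (∀ h ∈ H, ρ h v = v) → v = 0) →
        ∀ ψ : IrrCharacter E, m ψ ≠ 0 → ∑ h : ↥(H : Subgroup E), (ψ : E → ℂ) h = 0 := by
  obtain ⟨v₀, hv₀⟩ := exists_ne (0 : V)
  obtain ⟨m, hm, hker, hfix⟩ := exists_lift ρ hodd v₀ fun w hw => htr v₀ w hv₀ hw
  have hker' : ∀ g, (∀ ψ : IrrCharacter E, m ψ ≠ 0 → (ψ : E → ℂ) g = (ψ : E → ℂ) 1) → g = 1 :=
    fun g hg => hρ ((hker g hg).trans (map_one ρ).symm)
  set χ : E → ℂ := ∑ ψ : IrrCharacter E, (m ψ : ℂ) • (ψ : E → ℂ) with hχ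
  have hval : ∀ g, χ g = ∑ ψ : IrrCharacter E, (m ψ : ℂ) * (ψ : E → ℂ) g := fun g => by
    simp [hχ, Finset.sum_apply]
  have hχc : IsCharacter E χ := by
    rw [hχ]
    exact Char.isCharacter_sum _ _ fun ψ _ =>
      Char.isCharacter_natCast_smul _ (Char.IsIrr.isCharacter ψ.2)
  have hdeg : ∀ ψ : IrrCharacter E, (ψ : E → ℂ) 1 = charDegree (ψ : E → ℂ) := fun ψ =>
    (Blocks.charDegree_cast (Char.IsIrr.isCharacter ψ.2)).symm
  have hone : χ 1 = (Module.finrank (ZMod 2) V : ℂ) := by
    rw [hval, ← hm]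
    push_cast
    exact Finset.sum_congr rfl fun ψ _ => by rw [hdeg]
  refine ⟨χ, m, hχc, Blocks.charDegree_eq hone, fun g hg => hker' g fun ψ hψ => ?_, hm, hker', hfix⟩
  rw [hdeg]
  refine eq_of_le_norm Finset.univ m (fun ψ : IrrCharacter E => (ψ : E → ℂ) g)
    (fun ψ : IrrCharacter E => charDegree (ψ : E → ℂ)) (fun ψ _ => ?_) ?_
    ψ (Finset.mem_univ _) hψ
  · refine (Char.IsChar.norm_le (Char.IsIrr.isCharacter ψ.2) g).trans ?_
    rw [hdeg, Complex.natCast_re]
  · rw [← hval, hg, hval]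
    exact Finset.sum_congr rfl fun ψ _ => by rw [hdeg]

/-- The conclusion from a normal Sylow subgroup with abelian centraliser spanning everything. -/
theorem of_normal_sylow (hρ : Function.Injective ρ)
    (htr : ∀ a b : V, a ≠ 0 → b ≠ 0 → ∃ g, ρ g a = b) {l : ℕ} [Fact l.Prime] (P : Sylow l E)
    [(P : Subgroup E).Normal] (hPC : (P : Subgroup E) ≤ centralizer (P : Set E))
    (hC : ∀ a ∈ centralizer (P : Set E), ∀ b ∈ centralizer (P : Set E), a * b = b * a)
    (hd : ∀ d, 0 < d → d ∣ Module.finrank (ZMod 2) V →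
      Nat.card (centralizer (P : Set E)) ∣ 2 ^ d - 1 → d = Module.finrank (ZMod 2) V) :
    ∃ C : Subgroup E, C.Normal ∧ IsCyclic C ∧ C.index ∣ Module.finrank (ZMod 2) V ∧
      centralizer (C : Set E) = C ∧ (∀ c ∈ C, c ≠ 1 → ∀ v, ρ c v = v → v = 0) ∧
      commutator E ≤ C ∧ (∀ N : Subgroup E, N.Normal → Group.IsNilpotent N → N ≤ C) ∧
      Semi (fun g v => ρ g v) := by
  set C := centralizer ((P : Subgroup E) : Set E) with hCdef
  have hCn : C.Normal := by rw [hCdef]; infer_instance
  have hCC : centralizer (C : Set E) = C := le_antisymm (centralizer_le hPC) fun a ha => by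
    rw [mem_centralizer_iff]
    exact fun b hb => hC b hb a ha
  obtain ⟨R, hRf, hRfin, hRm, d, hd0, hR, hr0, hV, hidx, ⟨ι, hι, hιv⟩, -, hone⟩ :=
    SolRegular.exists_field_module (V := V) (q := 2) ρ hρ htr C hC
  set n := Module.finrank (ZMod 2) V with hn
  have hn' : Nat.card V = 2 ^ n := by
    rw [Module.natCard_eq_pow_finrank (K := ZMod 2), Nat.card_zmod]
  have hdr : d * Module.finrank R V = n := Nat.pow_right_injective le_rfl (hV.symm.trans hn')
  have hdn : d = n := hd d hd0 (hdr ▸ dvd_mul_right _ _)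
    (hR ▸ SolRegular.card_dvd_of_injective_monoidHom ι hι)
  have hr1 : Module.finrank R V = 1 := by
    rw [hdn] at hdr hd0
    exact Nat.eq_of_mul_eq_mul_left hd0 (hdr.trans (mul_one _).symm)
  rw [hCC, hdn] at hidx
  have hcyc : IsCyclic C := isCyclic_of_injective_ringHom ι hι
  refine ⟨C, hCn, hcyc, hidx, hCC, fun c hc hc1 v hv => ?_, ?_, ?_, (hone hr1).1⟩
  · by_contra hv0
    refine hc1 (congrArg Subtype.val (hι (a₁ := (⟨c, hc⟩ : C)) (a₂ := 1) ?_))
    rw [map_one]
    refine smul_left_injective R hv0 ?_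
    show ι ⟨c, hc⟩ • v = (1 : R) • v
    rw [one_smul, ← hιv, hv]
  · -- automorphisms of the cyclic Sylow subgroup commute
    have hPcyc : IsCyclic (P : Subgroup E) :=
      isCyclic_of_injective (Subgroup.inclusion hPC) (Subgroup.inclusion_injective hPC)
    obtain ⟨⟨x, hx⟩, hgen⟩ := hPcyc.exists_generator
    have hmemP : ∀ y ∈ (P : Subgroup E), ∃ k : ℤ, y = x ^ k := fun y hy => by
      obtain ⟨k, hk⟩ := hgen ⟨y, hy⟩
      exact ⟨k, (congrArg Subtype.val hk).symm⟩
    rw [commutator_def, Subgroup.commutator_le]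
    intro a _ b _
    obtain ⟨i, hi⟩ := hmemP _ (Normal.conj_mem inferInstance x hx a)
    obtain ⟨j, hj⟩ := hmemP _ (Normal.conj_mem inferInstance x hx b)
    have hab : (a * b) * x * (a * b)⁻¹ = (b * a) * x * (b * a)⁻¹ := by
      rw [show (a * b) * x * (a * b)⁻¹ = a * (b * x * b⁻¹) * a⁻¹ by group, hj, ← conj_zpow, hi,
        show (b * a) * x * (b * a)⁻¹ = b * (a * x * a⁻¹) * b⁻¹ by group, hi, ← conj_zpow, hj,
        ← zpow_mul, ← zpow_mul, mul_comm]
    have hz : ⁅a, b⁆ * (b * a * x * (b * a)⁻¹) * ⁅a, b⁆⁻¹ = b * a * x * (b * a)⁻¹ := by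
      rw [commutatorElement_def]
      conv_rhs => rw [← hab]
      group
    rw [hCdef, mem_centralizer_iff]
    intro y hy
    obtain ⟨k, hk⟩ := hmemP ((b * a)⁻¹ * y * (b * a))
      (by simpa using Normal.conj_mem inferInstance y hy (b * a)⁻¹)
    have hy' : y = (b * a * x * (b * a)⁻¹) ^ k := by rw [conj_zpow, ← hk]; group
    rw [hy']
    exact ((mul_inv_eq_iff_eq_mul.1 hz).symm : _ = _) |> fun h => (Commute.zpow_left h k).eq
  · intro N hN hNil g hg
    rw [hCdef, mem_centralizer_iff]
    intro x hx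
    obtain ⟨a, ha⟩ := IsPGroup.iff_card.1 P.isPGroup'
    have key : ∀ h ∈ N, (orderOf h).Coprime l → ∀ y ∈ (P : Subgroup E), h * y = y * h := by
      intro h hh hcop
      let c : ℕ → E → E := fun i y => (fun z => h * z * h⁻¹ * z⁻¹)^[i] y
      have hmem : ∀ i, ∀ y ∈ (P : Subgroup E), c (i + 1) y ∈ (P : Subgroup E) ∧
          c (i + 1) y ∈ N.lowerCentralSeries i := by
        intro i
        induction i with
        | zero =>
          intro y hy
          refine ⟨mul_mem (Normal.conj_mem inferInstance y hy h) (inv_mem hy), ?_⟩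
          show h * y * h⁻¹ * y⁻¹ ∈ N
          rw [show h * y * h⁻¹ * y⁻¹ = h * (y * h⁻¹ * y⁻¹) by group]
          exact mul_mem hh (hN.conj_mem _ (inv_mem hh) y)
        | succ i ih =>
          intro y hy
          obtain ⟨h1, hzm⟩ := ih y hy
          have e : c (i + 1 + 1) y = h * c (i + 1) y * h⁻¹ * (c (i + 1) y)⁻¹ := by
            simp only [c, Function.iterate_succ_apply']
          rw [e, Subgroup.lowerCentralSeries_succ]
          refine ⟨mul_mem (Normal.conj_mem inferInstance _ h1 h) (inv_mem h1), ?_⟩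
          have h2 := inv_mem (commutator_mem_commutator hzm hh)
          rwa [commutatorElement_inv, commutatorElement_def] at h2
      obtain ⟨K, hK⟩ := (Subgroup.isNilpotent_iff_lowerCentralSeries N).1 hNil
      have hlast : ∀ y ∈ (P : Subgroup E), c (K + 1) y = 1 := fun y hy => by
        have := (hmem K y hy).2
        rwa [hK, mem_bot] at this
      -- an element fixed modulo fixed elements is fixed
      have step : ∀ y ∈ (P : Subgroup E),
          h * (h * y * h⁻¹ * y⁻¹) * h⁻¹ = h * y * h⁻¹ * y⁻¹ → h * y = y * h := by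
        intro y hy hfix
        set w := h * y * h⁻¹ * y⁻¹ with hw
        have hwP : w ∈ (P : Subgroup E) := mul_mem (Normal.conj_mem inferInstance y hy h) (inv_mem hy)
        have hpow : ∀ k : ℕ, h ^ k * y * (h ^ k)⁻¹ = w ^ k * y := by
          intro k
          induction k with
          | zero => simp
          | succ k ih =>
            rw [pow_succ' h, show h * h ^ k * y * (h * h ^ k)⁻¹ =
              h * (h ^ k * y * (h ^ k)⁻¹) * h⁻¹ by group, ih,
              show h * (w ^ k * y) * h⁻¹ = (h * w * h⁻¹) ^ k * (h * y * h⁻¹) by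
                rw [conj_pow]; group, hfix, pow_succ, mul_assoc, hw]
            group
        have h1 := hpow (orderOf h)
        rw [pow_orderOf_eq_one, one_mul, inv_one, mul_one, right_eq_mul] at h1
        have h2 : orderOf w ∣ orderOf h := orderOf_dvd_of_pow_eq_one h1
        have h3 : orderOf w ∣ l ^ a := ha ▸ orderOf_dvd_natCard (P : Subgroup E) hwP
        have h4 : orderOf w = 1 := Nat.eq_one_of_dvd_coprimes (hcop.pow_right a) h2 h3
        rw [orderOf_eq_one_iff, hw, mul_inv_eq_one, mul_inv_eq_iff_eq_mul] at h4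
        exact h4
      have down : ∀ i, ∀ y ∈ (P : Subgroup E), c (i + 1) y = 1 → h * y = y * h := by
        intro i
        induction i with
        | zero =>
          intro y _ he
          rw [show c (0 + 1) y = h * y * h⁻¹ * y⁻¹ from rfl, mul_inv_eq_one,
            mul_inv_eq_iff_eq_mul] at he
          exact he
        | succ i ih =>
          intro y hy he
          have h1 : h * (h * y * h⁻¹ * y⁻¹) = (h * y * h⁻¹ * y⁻¹) * h := by
            refine ih _ (mul_mem (Normal.conj_mem inferInstance y hy h) (inv_mem hy)) ?_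
            rw [← he]
            simp only [c, Function.iterate_succ_apply]
          exact step y hy (mul_inv_eq_iff_eq_mul.2 h1)
      exact fun y hy => down K y hy (hlast y hy)
    -- split the element
    obtain ⟨e, m', hm', heq⟩ := Nat.exists_eq_pow_mul_and_not_dvd (orderOf_pos g).ne' l
      (Fact.out : l.Prime).ne_one
    have hcop : (orderOf (g ^ l ^ e)).Coprime l := by
      rw [orderOf_pow, heq, Nat.gcd_mul_right_left, Nat.mul_div_cancel_left _ (pow_pos (Fact.out : l.Prime).pos _)]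
      exact ((Fact.out : l.Prime).coprime_iff_not_dvd.2 hm').symm
    have h1 : g ^ l ^ e ∈ centralizer ({x} : Set E) := by
      rw [mem_centralizer_singleton_iff]
      exact key _ (pow_mem hg _) hcop x hx
    have h2 : g ^ m' ∈ centralizer ({x} : Set E) := by
      have hord : IsPGroup l (zpowers (g ^ m')) := IsPGroup.of_card (n := e) (by
        rw [Nat.card_zpowers, orderOf_pow, heq, Nat.gcd_mul_left_left,
          Nat.mul_div_cancel _ (Nat.pos_of_ne_zero fun h => hm' (by rw [h]; exact dvd_zero l))])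
      obtain ⟨Q, hQ⟩ := hord.exists_le_sylow
      have hle : zpowers (g ^ m') ≤ (P : Subgroup E) := by
        have hu := Sylow.unique_of_normal P inferInstance
        rwa [show Q = P from (hu.uniq Q).trans (hu.uniq P).symm] at hQ
      rw [mem_centralizer_singleton_iff]
      exact (mem_centralizer_iff.1 (hPC (hle (mem_zpowers _))) x hx).symm
    have h3 : g ∈ centralizer ({x} : Set E) := by
      have hg1 : g = (g ^ l ^ e) ^ Nat.gcdA (l ^ e) m' * (g ^ m') ^ Nat.gcdB (l ^ e) m' := by
        rw [← zpow_natCast g (l ^ e), ← zpow_natCast g m', ← zpow_mul, ← zpow_mul, ← zpow_add,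
          ← Nat.gcd_eq_gcd_ab, ((Fact.out : l.Prime).coprime_iff_not_dvd.2 hm').pow_left e,
          Nat.cast_one, zpow_one]
      rw [hg1]
      exact mul_mem (zpow_mem h1 _) (zpow_mem h2 _)
    exact (mem_centralizer_singleton_iff.1 h3).symm

end Cfsg.Agent.OddTrans
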